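import Groth.Prelude.Def_FlatMod2
import Groth.Agent.DCohLib.ClosedPush
import Groth.Agent.DevLib.Closed
import Groth.Agent.TorRankLib.Basic
import Mathlib.RingTheory.DiscreteValuationRing.Basic

/-!
# The special fibre cut out by a uniformiser, on stalks
-/

set_option autoImplicit false
set_option backward.isDefEq.respectTransparency false
set_option linter.style.haveILetI false

universe u

open CategoryTheory CategoryTheory.Limits AlgebraicGeometry TopologicalSpace Opposite TensorProduct

noncomputable section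

namespace Groth.Agent.TFOneLib

open PullbackMod

variable {R : Type u} [CommRing R] {κ : Type u} [CommRing κ] {ρ : R →+* κ}
  {X : Scheme.{u}} {f : X ⟶ Spec (CommRingCat.of R)} {Xs : Scheme.{u}} {p : Xs ⟶ Spec (CommRingCat.of κ)}
  {i : Xs ⟶ X}

/-- An element of the base, as a germ. -/
abbrev gt (f : X ⟶ Spec (CommRingCat.of R)) (y : X) (t : R) : X.presheaf.stalk y :=
  X.presheaf.germ ⊤ y trivial (Coh.toGlobal f t)

theorem stalkMap_gt (hsq : IsPullback i p f (Spec.map (CommRingCat.ofHom ρ))) (x : Xs) (t : R) :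
    i.stalkMap x (gt f (i x) t) = gt p x (ρ t) := by
  refine (Scheme.Hom.germ_stalkMap_apply i ⊤ x trivial _).trans (congrArg (Xs.presheaf.germ ⊤ x trivial) ?_)
  show (i.appTop) ((f.appTop) ((Scheme.ΓSpecIso (CommRingCat.of R)).inv t)) = _
  rw [← CommRingCat.comp_apply, ← Scheme.Hom.comp_appTop, hsq.w, Scheme.Hom.comp_appTop, CommRingCat.comp_apply]
  exact congrArg p.appTop (congr($(Scheme.ΓSpecIso_inv_naturality (CommRingCat.ofHom ρ)).hom t)).symm

/-- The kernel of the stalk map is generated by the element. -/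
theorem ker_stalkMap (hsq : IsPullback i p f (Spec.map (CommRingCat.ofHom ρ))) {t : R}
    (hρ : Function.Surjective ρ) (hker : RingHom.ker ρ = Ideal.span {t}) [IsClosedImmersion i] (x : Xs) :
    RingHom.ker (i.stalkMap x).hom = Ideal.span {gt f (i x) t} := by
  have ht : ρ t = 0 := RingHom.mem_ker.1 (hker ▸ Ideal.mem_span_singleton_self t)
  have h0 : i.stalkMap x (gt f (i x) t) = 0 := by
    rw [stalkMap_gt hsq, ht, gt, map_zero, map_zero]
  refine le_antisymm (fun a ha => ?_) ((Ideal.span_singleton_le_iff_mem _).2 h0)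
  set I : Ideal (X.presheaf.stalk (i x)) := Ideal.span {gt f (i x) t}
  have hI : I ≤ IsLocalRing.maximalIdeal _ := (Ideal.span_singleton_le_iff_mem _).2 fun hu =>
    not_isUnit_zero (h0 ▸ hu.map (i.stalkMap x).hom)
  haveI : Nontrivial (X.presheaf.stalk (i x) ⧸ I) := Ideal.Quotient.nontrivial_iff.mpr fun h =>
    (IsLocalRing.maximalIdeal.isMaximal _).ne_top (top_le_iff.mp (h ▸ hI))
  haveI : IsLocalRing (X.presheaf.stalk (i x) ⧸ I) :=
    IsLocalRing.of_surjective' (Ideal.Quotient.mk I) Ideal.Quotient.mk_surjective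
  let qx : X.presheaf.stalk (i x) ⟶ CommRingCat.of (X.presheaf.stalk (i x) ⧸ I) :=
    CommRingCat.ofHom (Ideal.Quotient.mk I)
  haveI : IsLocalHom qx.hom := IsLocalHom.of_surjective (Ideal.Quotient.mk I) Ideal.Quotient.mk_surjective
  let φ : R →+* X.presheaf.stalk (i x) := (X.presheaf.germ ⊤ (i x) trivial).hom.comp (Coh.toGlobal f)
  let ψ : κ →+* X.presheaf.stalk (i x) ⧸ I :=
    RingHom.liftOfSurjective ρ hρ ⟨(Ideal.Quotient.mk I).comp φ, fun b hb => by
      rw [hker, Ideal.mem_span_singleton] at hb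
      obtain ⟨c, rfl⟩ := hb
      rw [RingHom.mem_ker, map_mul, RingHom.comp_apply,
        Ideal.Quotient.eq_zero_iff_mem.2 (show φ t ∈ I from Ideal.mem_span_singleton_self _), zero_mul]⟩
  have hψ : ψ.comp ρ = (Ideal.Quotient.mk I).comp φ :=
    RingHom.liftOfRightInverse_comp _ _ _ _
  have hw : (Spec.map qx ≫ X.fromSpecStalk (i x)) ≫ f =
      Spec.map (CommRingCat.ofHom ψ) ≫ Spec.map (CommRingCat.ofHom ρ) := by
    have e : f = X.toSpecΓ ≫ Spec.map ((Scheme.ΓSpecIso (CommRingCat.of R)).inv ≫ f.appTop) := by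
      rw [Spec.map_comp, ← Scheme.toSpecΓ_naturality_assoc, toSpecΓ_SpecMap_ΓSpecIso_inv, Category.comp_id]
    rw [Category.assoc]
    conv_lhs => rw [e]
    rw [Scheme.fromSpecStalk_toSpecΓ_assoc, ← Spec.map_comp, ← Spec.map_comp, ← Spec.map_comp]
    exact congrArg Spec.map (CommRingCat.hom_ext hψ.symm)
  let h : Spec (CommRingCat.of (X.presheaf.stalk (i x) ⧸ I)) ⟶ Xs := hsq.lift _ _ hw
  have hh : h ≫ i = Spec.map qx ≫ X.fromSpecStalk (i x) := hsq.lift_fst _ _ hw
  let c := IsLocalRing.closedPoint (X.presheaf.stalk (i x) ⧸ I)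
  have hx' : i (h c) = i x := by
    rw [← Scheme.Hom.comp_apply, hh, Scheme.Hom.comp_apply]
    exact (congrArg (X.fromSpecStalk (i x)) Spec_closedPoint).trans X.fromSpecStalk_closedPoint
  have hc : h c = x := i.isClosedEmbedding.injective hx'
  obtain ⟨U, hxU, sec, rfl⟩ := TopCat.Presheaf.exists_germ_eq X.presheaf a
  rw [← Ideal.Quotient.eq_zero_iff_mem]
  show qx (X.presheaf.germ U (i x) hxU sec) = 0
  have hU : (Spec.map qx ≫ X.fromSpecStalk (i x)) c ∈ U := by
    rw [← hh, Scheme.Hom.comp_apply, hx']; exact hxU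
  have h1 := ConcreteCategory.congr_hom (Scheme.germ_stalkClosedPointTo_Spec_fromSpecStalk qx U hU) sec
  rw [CommRingCat.comp_apply, CommRingCat.comp_apply] at h1
  rw [← h1]
  have key : ∀ (w : Xs) (hw : i w ∈ U), w = x → i.stalkMap w (X.presheaf.germ U _ hw sec) = 0 := by
    rintro w hw rfl
    exact ha
  have h2 : ∀ (g : Spec (CommRingCat.of (X.presheaf.stalk (i x) ⧸ I)) ⟶ X)
      (_ : g = h ≫ i) (hg : g c ∈ U), Scheme.stalkClosedPointTo g (X.presheaf.germ U _ hg sec) = 0 := by
    rintro g rfl hg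
    rw [Scheme.stalkClosedPointTo_comp, CommRingCat.comp_apply]
    exact (congrArg _ (key _ hg hc)).trans (map_zero _)
  exact h2 _ hh.symm hU

variable [IsClosedImmersion i]

/-- The stalk of an inverse image to the special fibre is the quotient by the element. -/
theorem pullStalk_quot (hsq : IsPullback i p f (Spec.map (CommRingCat.ofHom ρ))) {t : R}
    (hρ : Function.Surjective ρ) (hker : RingHom.ker ρ = Ideal.span {t}) (T : X.Modules) [Coh.IsQCoh T] (x : Xs) :
    Function.Surjective (pullStalk i T x) ∧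
      ∀ z, pullStalk i T x z = 0 ↔ ∃ w, gt f (i x) t • w = z := by
  let A := X.presheaf.stalk (i x)
  let B := Xs.presheaf.stalk x
  let T' := T.presheaf.stalk (i x)
  letI : Algebra A B := (i.stalkMap x).hom.toAlgebra
  letI := Module.compHom (((Scheme.Modules.pullback i).obj T).presheaf.stalk x) (i.stalkMap x).hom
  haveI : IsScalarTower A B (((Scheme.Modules.pullback i).obj T).presheaf.stalk x) :=
    .of_algebraMap_smul fun _ _ => rfl
  have hb : IsBaseChange B (pullStalkL i T x) := isBaseChange_pullStalkL i T x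
  have hsurjA : Function.Surjective (Algebra.linearMap A B) := i.stalkMap_surjective x
  constructor
  · intro z
    obtain ⟨c, rfl⟩ := hb.equiv.surjective z
    induction c using TensorProduct.induction_on with
    | zero => exact ⟨0, by rw [map_zero, map_zero]⟩
    | tmul b m =>
      obtain ⟨a, rfl⟩ := hsurjA b
      refine ⟨a • m, ?_⟩
      rw [hb.equiv_tmul]
      exact pullStalk_smul i T x a m
    | add u v hu hv =>
      obtain ⟨u', hu'⟩ := hu
      obtain ⟨v', hv'⟩ := hv
      exact ⟨u' + v', by rw [map_add, hu', hv', map_add]⟩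
  · intro z
    constructor
    · intro hz
      have h1 : (1 : B) ⊗ₜ[A] z = 0 := by
        apply hb.equiv.injective
        rw [hb.equiv_tmul, one_smul, map_zero]
        exact hz
      have hex := rTensor_exact T' (LinearMap.exact_subtype_ker_map (Algebra.linearMap A B)) hsurjA
      obtain ⟨n, hn⟩ := (hex ((1 : A) ⊗ₜ[A] z)).1 (by
        rw [LinearMap.rTensor_tmul]
        show algebraMap A B 1 ⊗ₜ[A] z = 0
        rw [map_one]
        exact h1)
      have h0 : ∀ n, ∃ w, gt f (i x) t • w = TensorProduct.lid A T'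
          ((LinearMap.ker (Algebra.linearMap A B)).subtype.rTensor T' n) := fun n => by
        induction n using TensorProduct.induction_on with
        | zero => exact ⟨0, by rw [smul_zero, map_zero, map_zero]⟩
        | tmul a m =>
          have ha : a.1 ∈ RingHom.ker (i.stalkMap x).hom := a.2
          rw [ker_stalkMap hsq hρ hker, Ideal.mem_span_singleton] at ha
          obtain ⟨c, hc⟩ := ha
          refine ⟨c • m, ?_⟩
          rw [LinearMap.rTensor_tmul, TensorProduct.lid_tmul, ← mul_smul, ← hc]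
          rfl
        | add p q hp hq =>
          obtain ⟨p', hp'⟩ := hp
          obtain ⟨q', hq'⟩ := hq
          exact ⟨p' + q', by rw [smul_add, hp', hq', map_add, map_add]⟩
      obtain ⟨w, hw⟩ := h0 n
      refine ⟨w, ?_⟩
      rw [hn, TensorProduct.lid_tmul, one_smul] at hw
      exact hw
    · rintro ⟨w, rfl⟩
      have h0 : i.stalkMap x (gt f (i x) t) = 0 := by
        rw [stalkMap_gt hsq, RingHom.mem_ker.1 (hker ▸ Ideal.mem_span_singleton_self t), gt, map_zero, map_zero]
      rw [pullStalk_smul]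
      exact (congrArg (· • _) h0).trans (zero_smul _ _)

/-- A non-zero-divisor of the base acts injectively on the stalks of a flat module. -/
theorem isSMulRegular_gt [IsDomain R] {t : R} (ht : t ≠ 0) {T : X.Modules} (hT : FlatMod.IsFlatOver f T) (y : X) :
    IsSMulRegular (T.presheaf.stalk y) (gt f y t) := by
  letI := FlatMod.moduleStalkOver f T y
  haveI : Module.Flat ((Spec (CommRingCat.of R)).presheaf.stalk (f y)) (T.presheaf.stalk y) := hT y
  have he : gt f y t = f.stalkMap y ((Spec (CommRingCat.of R)).presheaf.germ ⊤ (f y) trivial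
      ((Scheme.ΓSpecIso (CommRingCat.of R)).inv t)) :=
    (Scheme.Hom.germ_stalkMap_apply f ⊤ y trivial _).symm
  have hne : (Spec (CommRingCat.of R)).presheaf.germ ⊤ (f y) trivial
      ((Scheme.ΓSpecIso (CommRingCat.of R)).inv t) ≠ 0 := fun h =>
    ht ((Scheme.ΓSpecIso (CommRingCat.of R)).commRingCatIsoToRingEquiv.symm.injective
      ((germ_injective_of_isIntegral _ (f y) (U := ⊤) trivial (h.trans (map_zero _).symm)).trans (map_zero _).symm))
  rw [he]
  have h : IsSMulRegular (T.presheaf.stalk y) ((Spec (CommRingCat.of R)).presheaf.germ ⊤ (f y) trivial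
      ((Scheme.ΓSpecIso (CommRingCat.of R)).inv t)) :=
    Module.Flat.isSMulRegular_of_nonZeroDivisors (mem_nonZeroDivisors_of_ne_zero hne)
  exact h

end Groth.Agent.TFOneLib
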