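import Groth.Agent.TFOneLib.Chi
import Groth.Agent.HilbObsLib.Stalk
import Groth.Agent.SyzLib.Sheaf

/-!
# Torsion-free quotients of an elementary modification
-/

set_option autoImplicit false
set_option backward.isDefEq.respectTransparency false
set_option linter.style.haveILetI false

universe u

open CategoryTheory CategoryTheory.Limits AlgebraicGeometry TopologicalSpace Opposite

noncomputable section

namespace Groth.Agent.TFOneLib

open MeroLib (IsMaxPt)
open PullbackMod

variable {X : Scheme.{u}}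

theorem stalkLin_apply_zero {A B C : X.Modules} {f : A ⟶ B} {g : B ⟶ C} (h : f ≫ g = 0) (x : X)
    (z : A.presheaf.stalk x) : stalkLin g x (stalkLin f x z) = 0 := by
  rw [← LinearMap.comp_apply, ← stalkLin_comp, h, stalkLin_zero, LinearMap.zero_apply]

theorem stalkLin_eq_of_comp {A B C : X.Modules} {f : A ⟶ B} {g : B ⟶ C} {h : A ⟶ C} (he : f ≫ g = h) (x : X)
    (z : A.presheaf.stalk x) : stalkLin g x (stalkLin f x z) = stalkLin h x z := by
  rw [← LinearMap.comp_apply, ← stalkLin_comp, he]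

/-- A short exact sequence from its stalks. -/
theorem shortExact_of_stalk {A B C : X.Modules} (f : A ⟶ B) (g : B ⟶ C)
    (hf : ∀ x, Function.Injective (stalkLin f x)) (hfg : ∀ x, Function.Exact (stalkLin f x) (stalkLin g x))
    (hg : ∀ x, Function.Surjective (stalkLin g x)) :
    ∃ w : f ≫ g = 0, (ShortComplex.mk f g w).ShortExact := by
  have w : f ≫ g = 0 := (eq_zero_iff_stalk _).2 fun x => LinearMap.ext fun z => by
    rw [stalkLin_comp, LinearMap.comp_apply, (hfg x).apply_apply_eq_zero z, LinearMap.zero_apply]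
  exact ⟨w, { exact := HilbObsLib.exact_of_stalk fun x z hz => (hfg x z).1 hz
              mono_f := (mono_iff_stalk f).2 hf
              epi_g := (epi_iff_stalk g).2 hg }⟩

/-- A submodule of a torsion-free module is torsion-free. -/
theorem torsionFree_of_injective {A B : X.Modules} (f : A ⟶ B) (hf : ∀ x, Function.Injective (stalkLin f x))
    (hB : TorSh.IsTorsionFree B) : TorSh.IsTorsionFree A := fun x => by
  haveI := hB x
  exact (hf x).moduleIsTorsionFree (stalkLin f x) (fun r z => map_smul _ r z)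

/-- An extension of torsion-free modules is torsion-free. -/
theorem torsionFree_of_exact {A B C : X.Modules} (f : A ⟶ B) (g : B ⟶ C)
    (hf : ∀ x, Function.Injective (stalkLin f x)) (hfg : ∀ x, Function.Exact (stalkLin f x) (stalkLin g x))
    (hA : TorSh.IsTorsionFree A) (hC : TorSh.IsTorsionFree C) : TorSh.IsTorsionFree B := fun x => by
  haveI := hA x
  haveI := hC x
  refine ⟨fun r hr => (injective_iff_map_eq_zero (DistribSMul.toAddMonoidHom _ r)).2 fun z hz => ?_⟩
  have h1 : stalkLin g x z = 0 := hr.isSMulRegular (M := C.presheaf.stalk x) (by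
    show r • stalkLin g x z = r • 0
    rw [smul_zero, ← map_smul]
    exact (congrArg _ hz).trans (map_zero _))
  obtain ⟨y, rfl⟩ := (hfg x z).1 h1
  rw [hr.isSMulRegular (M := A.presheaf.stalk x) (show r • y = r • 0 by
    rw [smul_zero]
    refine hf x ?_
    rw [map_smul, map_zero]
    exact hz), map_zero]

theorem mem_support_iff {G : X.Modules} (x : X) :
    x ∈ CohB1.support G ↔ ∃ z : G.presheaf.stalk x, z ≠ 0 := by
  constructor
  · intro h
    by_contra hh
    push Not at hh
    exact h (subsingleton_of_forall_eq 0 hh)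
  · rintro ⟨z, hz⟩ h
    exact hz (@Subsingleton.elim _ h _ _)

theorem isQuotOn_support {J G : X.Modules} (p : J ⟶ G) (hp : ∀ x, Function.Surjective (stalkLin p x))
    (hG : Coh.IsCoh G) (htG : TorSh.IsTorsionFree G) : TFOne.IsQuotOn X J (CohB1.support G) G p :=
  ⟨(epi_iff_stalk p).2 hp, hG, htG, rfl⟩

theorem mem_quot_iff {M G : X.Modules} {Z : Set X} {π : M ⟶ G} (hG : TFOne.IsQuotOn X M Z G π) (x : X) :
    x ∈ Z ↔ ∃ z : G.presheaf.stalk x, z ≠ 0 := by rw [← mem_support_iff, hG.2.2.2]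

variable [IsReduced X] {k : Type u} [Field k] [X.Over (Spec (CommRingCat.of k))]
  [IsProper (X ↘ Spec (CommRingCat.of k))]

/-- The Euler characteristic of the quotient only depends on the maximal points. -/
theorem euler_quot_eq {M : X.Modules} (hM : TFOne.IsRkOne X M) {Z Z' : Set X} {G G' : X.Modules} {π : M ⟶ G}
    {π' : M ⟶ G'} (hG : TFOne.IsQuotOn X M Z G π) (hG' : TFOne.IsQuotOn X M Z' G' π')
    (h : ∀ η, IsMaxPt η → (η ∈ Z ↔ η ∈ Z')) : Curv2.euler k X G = Curv2.euler k X G' := by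
  haveI := EulerIneqLib.isNoetherian_proper (X := X) k
  haveI := hG.2.1.1
  haveI := hG'.2.1.1
  obtain ⟨g, hg, -⟩ := exists_restrict hM hG hG' fun η hη h' => (h η hη).2 h'
  obtain ⟨g', hg', -⟩ := exists_restrict hM hG' hG fun η hη h' => (h η hη).1 h'
  haveI := hG.1
  haveI := hG'.1
  exact CurveLib.euler_iso (K := k) ⟨g, g', by rw [← cancel_epi π, ← Category.assoc, hg, hg', Category.comp_id],
    by rw [← cancel_epi π', ← Category.assoc, hg', hg, Category.comp_id]⟩

/-- `M'` is obtained from `M` by the modification along the quotient `π : M ⟶ P`. -/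
structure IsModif {M P M' : X.Modules} (π : M ⟶ P) (α : P ⟶ M') (β : M' ⟶ M) : Prop where
  coh : Coh.IsCoh M'
  inj : ∀ x, Function.Injective (stalkLin α x)
  exact₁ : ∀ x, Function.Exact (stalkLin α x) (stalkLin β x)
  exact₂ : ∀ x, Function.Exact (stalkLin β x) (stalkLin π x)

variable {M P J : X.Modules} {π : M ⟶ P} {α : P ⟶ J} {β : J ⟶ M} {Y : Set X}
  (hM : TFOne.IsTF1 X M) (hP : TFOne.IsQuotOn X M Y P π) (hJ : IsModif π α β)

include hM hP hJ

omit [IsProper (X ↘ Spec (CommRingCat.of k))] [X.Over (Spec (CommRingCat.of k))] in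
theorem IsModif.isTF1 [IsLocallyNoetherian X] : TFOne.IsTF1 X J := by
  refine ⟨hJ.coh, torsionFree_of_exact α (Abelian.factorThruImage β) hJ.inj (fun x z => ?_) hP.2.2.1
    (torsionFree_of_injective (Abelian.image.ι β) ((mono_iff_stalk _).1 inferInstance) hM.2.1), fun η hη => ?_⟩
  · have hi := (mono_iff_stalk (Abelian.image.ι β)).1 inferInstance x
    rw [← hJ.exact₁ x z, ← stalkLin_eq_of_comp (Abelian.image.fac β) x z]
    exact ⟨fun h => by rw [h, map_zero], fun h => hi (h.trans (map_zero _).symm)⟩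
  have hη' := (isMaxPt_iff_genericPoints η).2 hη
  obtain ⟨φ⟩ := hM.2.2 η hη
  by_cases h : η ∈ Y
  · have hb := bijective_stalk hM.2.2 hP hη' h
    have hβ : ∀ z, stalkLin β η z = 0 := fun z =>
      hb.1 (((hJ.exact₂ η).apply_apply_eq_zero z).trans (map_zero _).symm)
    exact ⟨(LinearEquiv.ofBijective (stalkLin α η)
      ⟨hJ.inj η, fun z => (hJ.exact₁ η z).1 (hβ z)⟩).symm.trans ((LinearEquiv.ofBijective _ hb).symm.trans φ)⟩
  · refine ⟨(LinearEquiv.ofBijective (stalkLin β η) ⟨(injective_iff_map_eq_zero _).2 fun z hz => ?_, fun z => ?_⟩).trans φ⟩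
    · obtain ⟨y, rfl⟩ := (hJ.exact₁ η z).1 hz
      rw [stalk_zero_of_notMem hP h y, map_zero]
    · exact (hJ.exact₂ η z).1 (stalk_zero_of_notMem hP h _)

omit [IsProper (X ↘ Spec (CommRingCat.of k))] [X.Over (Spec (CommRingCat.of k))] in
/-- For `U ⊇ Y` the quotient of the modification on `U \ Y`. -/
theorem IsModif.exists_quot_sdiff [IsLocallyNoetherian X] {U : Set X} {GU : X.Modules} {πU : M ⟶ GU}
    (hU : TFOne.IsQuotOn X M U GU πU) (hYU : ∀ η, IsMaxPt η → η ∈ Y → η ∈ U) :
    ∃ (r : GU ⟶ P) (_ : Epi r) (c : J ⟶ kernel r),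
      TFOne.IsQuotOn X J (CohB1.support (kernel r)) (kernel r) c ∧
      (∀ η, IsMaxPt η → (η ∈ CohB1.support (kernel r) ↔ η ∈ U ∧ η ∉ Y)) := by
  haveI := hP.2.1.1
  obtain ⟨r, hr, hre⟩ := exists_restrict hM.2.2 hU hP hYU
  have hβπ : β ≫ π = 0 := (eq_zero_iff_stalk _).2 fun x => LinearMap.ext fun z => by
    rw [stalkLin_comp, LinearMap.comp_apply, (hJ.exact₂ x).apply_apply_eq_zero z, LinearMap.zero_apply]
  let c : J ⟶ kernel r := kernel.lift r (β ≫ πU) (by rw [Category.assoc, hr, hβπ])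
  have hι := fun x => (mono_iff_stalk (kernel.ι r)).1 inferInstance x
  have hc : ∀ x z, stalkLin (kernel.ι r) x (stalkLin c x z) = stalkLin πU x (stalkLin β x z) := fun x z => by
    rw [stalkLin_eq_of_comp (kernel.lift_ι _ _ _) x z, stalkLin_comp, LinearMap.comp_apply]
  have hsurj : ∀ x, Function.Surjective (stalkLin c x) := fun x z => by
    haveI := hU.1
    obtain ⟨m, hm⟩ := (epi_iff_stalk πU).1 inferInstance x (stalkLin (kernel.ι r) x z)
    obtain ⟨j, rfl⟩ := (hJ.exact₂ x m).1 (by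
      rw [← stalkLin_eq_of_comp hr x m, hm, stalkLin_apply_zero (kernel.condition r)])
    exact ⟨j, hι x (by rw [hc, hm])⟩
  have hKc := (QCohLib.isCoh_kernel_cokernel r hU.2.1 hP.2.1).1
  refine ⟨r, hre, c, isQuotOn_support c hsurj hKc (torsionFree_of_injective _ hι hU.2.2.1), fun η hη => ?_⟩
  rw [mem_support_iff]
  constructor
  · rintro ⟨z, hz⟩
    have hz' : stalkLin (kernel.ι r) η z ≠ 0 := fun h => hz (hι η (h.trans (map_zero _).symm))
    refine ⟨(mem_quot_iff hU η).2 ⟨_, hz'⟩, fun hY => hz' ?_⟩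
    obtain ⟨m, hm⟩ := (bijective_stalk hM.2.2 hU hη (hYU η hη hY)).2 (stalkLin (kernel.ι r) η z)
    have h0 : stalkLin π η m = 0 := by
      rw [← stalkLin_eq_of_comp hr η m, hm, stalkLin_apply_zero (kernel.condition r)]
    rw [← hm, (bijective_stalk hM.2.2 hP hη hY).1 (h0.trans (map_zero _).symm), map_zero]
  · rintro ⟨hηU, hY⟩
    obtain ⟨z, hz⟩ := (mem_quot_iff hU η).1 hηU
    obtain ⟨w, hw⟩ := (SyzLib.exact_stalkLin' (ShortComplex.mk _ _ (kernel.condition r))
      (ShortComplex.exact_of_f_is_kernel _ (kernelIsKernel r)) η z).1 (stalk_zero_of_notMem hP hY _)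
    exact ⟨w, fun h => hz (by rw [← hw, h, map_zero])⟩

/-- The Euler characteristic of a quotient of the modification on `U \ Y`. -/
theorem IsModif.euler_sdiff {U V : Set X} {GU G : X.Modules} {πU : M ⟶ GU} {p : J ⟶ G}
    (hU : TFOne.IsQuotOn X M U GU πU) (hYU : ∀ η, IsMaxPt η → η ∈ Y → η ∈ U) (hG : TFOne.IsQuotOn X J V G p)
    (hV : ∀ η, IsMaxPt η → (η ∈ V ↔ η ∈ U ∧ η ∉ Y)) :
    Curv2.euler k X G = Curv2.euler k X GU - Curv2.euler k X P := by
  haveI := EulerIneqLib.isNoetherian_proper (X := X) k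
  obtain ⟨r, hre, c, hc, hmem⟩ := hJ.exists_quot_sdiff hM hP hU hYU
  rw [euler_quot_eq (k := k) (hJ.isTF1 hM hP).2.2 hG hc fun η hη => (hV η hη).trans (hmem η hη).symm]
  have hS : (ShortComplex.mk (kernel.ι r) r (kernel.condition r)).ShortExact :=
    { exact := ShortComplex.exact_of_f_is_kernel _ (kernelIsKernel r) }
  have := CurveLib.euler_shortExact (K := k) hS hc.2.1 hU.2.1 hP.2.1
  dsimp at this
  omega

omit [IsProper (X ↘ Spec (CommRingCat.of k))] [X.Over (Spec (CommRingCat.of k))] in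
/-- For `W ⊆ Y` the quotient of the modification on `W` and the components outside `Y`. -/
theorem IsModif.exists_quot_union [IsLocallyNoetherian X] {W : Set X} {GW : X.Modules} {πW : M ⟶ GW}
    (hW : TFOne.IsQuotOn X M W GW πW) (hWY : ∀ η, IsMaxPt η → η ∈ W → η ∈ Y) :
    ∃ (J' : X.Modules) (p : J ⟶ J') (j : GW ⟶ J') (q : J' ⟶ kernel π),
      TFOne.IsQuotOn X J (CohB1.support J') J' p ∧
      (∀ η, IsMaxPt η → (η ∈ CohB1.support J' ↔ η ∈ W ∨ η ∉ Y)) ∧
      (∀ x, Function.Injective (stalkLin j x)) ∧ (∀ x, Function.Exact (stalkLin j x) (stalkLin q x)) ∧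
      ∀ x, Function.Surjective (stalkLin q x) := by
  haveI := hW.2.1.1
  obtain ⟨r, hr, hre⟩ := exists_restrict hM.2.2 hP hW hWY
  haveI := hre
  let p := cokernel.π (kernel.ι r ≫ α)
  let j : GW ⟶ cokernel (kernel.ι r ≫ α) := Abelian.epiDesc r (α ≫ p) (by
    rw [← Category.assoc, cokernel.condition])
  have hj : r ≫ j = α ≫ p := Abelian.comp_epiDesc _ _ _
  have hβπ : β ≫ π = 0 := (eq_zero_iff_stalk _).2 fun x => LinearMap.ext fun z => by
    rw [stalkLin_comp, LinearMap.comp_apply, (hJ.exact₂ x).apply_apply_eq_zero z, LinearMap.zero_apply]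
  let b : J ⟶ kernel π := kernel.lift π β hβπ
  have hι := fun x => (mono_iff_stalk (kernel.ι π)).1 inferInstance x
  have hb : ∀ x z, stalkLin (kernel.ι π) x (stalkLin b x z) = stalkLin β x z := fun x z =>
    stalkLin_eq_of_comp (kernel.lift_ι _ _ _) x z
  have hαb : α ≫ b = 0 := (eq_zero_iff_stalk _).2 fun x => LinearMap.ext fun z => hι x (by
    rw [stalkLin_comp, LinearMap.comp_apply, hb, (hJ.exact₁ x).apply_apply_eq_zero z, LinearMap.zero_apply, map_zero])
  let q : cokernel (kernel.ι r ≫ α) ⟶ kernel π := cokernel.desc _ b (by rw [Category.assoc, hαb, comp_zero])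
  have hq : p ≫ q = b := cokernel.π_desc _ _ _
  have hpsurj := fun x => (epi_iff_stalk p).1 inferInstance x
  have hrsurj := fun x => (epi_iff_stalk r).1 inferInstance x
  have hker : ∀ x z, stalkLin p x z = 0 → ∃ y, stalkLin r x y = 0 ∧ stalkLin α x y = z := fun x z hz => by
    obtain ⟨w, hw⟩ := (SyzLib.exact_stalkLin' (ShortComplex.mk _ _ (cokernel.condition (kernel.ι r ≫ α)))
      (ShortComplex.exact_of_g_is_cokernel _ (cokernelIsCokernel _)) x z).1 hz
    refine ⟨stalkLin (kernel.ι r) x w, stalkLin_apply_zero (kernel.condition r) x w, ?_⟩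
    rw [← LinearMap.comp_apply, ← stalkLin_comp]
    exact hw
  have hjinj : ∀ x, Function.Injective (stalkLin j x) := fun x => (injective_iff_map_eq_zero _).2 fun w hw => by
    obtain ⟨y, rfl⟩ := hrsurj x w
    rw [stalkLin_eq_of_comp hj, stalkLin_comp, LinearMap.comp_apply] at hw
    obtain ⟨y', hy', he⟩ := hker x _ hw
    rw [← hJ.inj x he, hy']
  have hexact : ∀ x, Function.Exact (stalkLin j x) (stalkLin q x) := fun x z => by
    obtain ⟨y, rfl⟩ := hpsurj x z
    rw [stalkLin_eq_of_comp hq]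
    constructor
    · intro h
      obtain ⟨w, rfl⟩ := (hJ.exact₁ x y).1 (by rw [← hb, h, map_zero])
      exact ⟨stalkLin r x w, by rw [stalkLin_eq_of_comp hj, stalkLin_comp, LinearMap.comp_apply]⟩
    · rintro ⟨v, hv⟩
      obtain ⟨w, rfl⟩ := hrsurj x v
      rw [stalkLin_eq_of_comp hj, stalkLin_comp, LinearMap.comp_apply] at hv
      have h0 : stalkLin p x (y - stalkLin α x w) = 0 := by rw [map_sub, hv, sub_self]
      obtain ⟨y', -, he⟩ := hker x _ h0
      rw [show y = stalkLin α x (y' + w) by rw [map_add, he, sub_add_cancel],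
        stalkLin_apply_zero hαb]
  have hqs : ∀ x, Function.Surjective (stalkLin q x) := fun x z => by
    obtain ⟨y, hy⟩ := (hJ.exact₂ x _).1 (stalkLin_apply_zero (kernel.condition π) x z)
    exact ⟨stalkLin p x y, hι x (by rw [stalkLin_eq_of_comp hq, hb, hy])⟩
  have hJ' : Coh.IsCoh (cokernel (kernel.ι r ≫ α)) :=
    (QCohLib.isCoh_kernel_cokernel _ (QCohLib.isCoh_kernel_cokernel r hP.2.1 hW.2.1).1 hJ.coh).2
  refine ⟨_, p, j, q, isQuotOn_support p hpsurj hJ' (torsionFree_of_exact j q hjinj hexact hW.2.2.1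
    (torsionFree_of_injective _ hι hM.2.1)), fun η hη => ?_, hjinj, hexact, hqs⟩
  rw [mem_support_iff]
  constructor
  · rintro ⟨z, hz⟩
    refine or_iff_not_imp_left.2 fun hηW hηY => hz ?_
    have h0 : stalkLin q η z = 0 := by
      refine hι η ((bijective_stalk hM.2.2 hP hη hηY).1 ?_)
      rw [map_zero, map_zero, stalkLin_apply_zero (kernel.condition π)]
    obtain ⟨v, rfl⟩ := (hexact η z).1 h0
    rw [stalk_zero_of_notMem hW hηW v, map_zero]
  · rintro (h | h)
    · obtain ⟨z, hz⟩ := (mem_quot_iff hW η).1 h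
      exact ⟨stalkLin j η z, fun h0 => hz (hjinj η (h0.trans (map_zero _).symm))⟩
    · obtain ⟨e, he, -⟩ := exists_basis hM.2.2 hη
      obtain ⟨z, hz⟩ := (SyzLib.exact_stalkLin' (ShortComplex.mk _ _ (kernel.condition π))
        (ShortComplex.exact_of_f_is_kernel _ (kernelIsKernel π)) η e).1 (stalk_zero_of_notMem hP h _)
      obtain ⟨w, rfl⟩ := hqs η z
      exact ⟨w, fun h0 => he (by rw [← hz, h0, map_zero, map_zero])⟩

/-- The Euler characteristic of a quotient of the modification on `W` and the components outside `Y`. -/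
theorem IsModif.euler_union {W T : Set X} {GW G : X.Modules} {πW : M ⟶ GW} {p : J ⟶ G}
    (hW : TFOne.IsQuotOn X M W GW πW) (hWY : ∀ η, IsMaxPt η → η ∈ W → η ∈ Y) (hG : TFOne.IsQuotOn X J T G p)
    (hT : ∀ η, IsMaxPt η → (η ∈ T ↔ η ∈ W ∨ η ∉ Y)) :
    Curv2.euler k X G = Curv2.euler k X GW + Curv2.euler k X M - Curv2.euler k X P := by
  haveI := EulerIneqLib.isNoetherian_proper (X := X) k
  obtain ⟨J', p', j, q, hp', hmem, h1, h2, h3⟩ := hJ.exists_quot_union hM hP hW hWY
  rw [euler_quot_eq (k := k) (hJ.isTF1 hM hP).2.2 hG hp' fun η hη => (hT η hη).trans (hmem η hη).symm]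
  obtain ⟨w, hS⟩ := shortExact_of_stalk j q h1 h2 h3
  haveI := hP.1
  have hK := (QCohLib.isCoh_kernel_cokernel π hM.1 hP.2.1).1
  have e1 := CurveLib.euler_shortExact (K := k) hS hW.2.1 hp'.2.1 hK
  have hS' : (ShortComplex.mk (kernel.ι π) π (kernel.condition π)).ShortExact :=
    { exact := ShortComplex.exact_of_f_is_kernel _ (kernelIsKernel π) }
  have e2 := CurveLib.euler_shortExact (K := k) hS' hK hM.1 hP.2.1
  dsimp at e1 e2
  omega

omit [IsReduced X] in
/-- The modification has the same Euler characteristic. -/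
theorem IsModif.euler_eq : Curv2.euler k X J = Curv2.euler k X M := by
  haveI := EulerIneqLib.isNoetherian_proper (X := X) k
  haveI := hP.1
  have hβπ : β ≫ π = 0 := (eq_zero_iff_stalk _).2 fun x => LinearMap.ext fun z => by
    rw [stalkLin_comp, LinearMap.comp_apply, (hJ.exact₂ x).apply_apply_eq_zero z, LinearMap.zero_apply]
  let b : J ⟶ kernel π := kernel.lift π β hβπ
  have hι := fun x => (mono_iff_stalk (kernel.ι π)).1 inferInstance x
  have hb : ∀ x z, stalkLin (kernel.ι π) x (stalkLin b x z) = stalkLin β x z := fun x z =>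
    stalkLin_eq_of_comp (kernel.lift_ι _ _ _) x z
  obtain ⟨w, hS⟩ := shortExact_of_stalk α b hJ.inj (fun x z => by
    rw [← hJ.exact₁ x z, ← hb]
    exact ⟨fun h => by rw [h, map_zero], fun h => hι x (h.trans (map_zero _).symm)⟩) (fun x z => by
    obtain ⟨y, hy⟩ := (hJ.exact₂ x _).1 (stalkLin_apply_zero (kernel.condition π) x z)
    exact ⟨y, hι x (by rw [hb, hy])⟩)
  have hK := (QCohLib.isCoh_kernel_cokernel π hM.1 hP.2.1).1
  have e1 := CurveLib.euler_shortExact (K := k) hS hP.2.1 hJ.coh hK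
  have hS' : (ShortComplex.mk (kernel.ι π) π (kernel.condition π)).ShortExact :=
    { exact := ShortComplex.exact_of_f_is_kernel _ (kernelIsKernel π) }
  have e2 := CurveLib.euler_shortExact (K := k) hS' hK hM.1 hP.2.1
  dsimp at e1 e2
  omega

end Groth.Agent.TFOneLib
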