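import Groth.Agent.PicCurveLib.Generic

/-! Dimension from the irreducible components; finiteness of closed sets missing the maximal points. -/

set_option autoImplicit false

universe u

open CategoryTheory AlgebraicGeometry TopologicalSpace Topology

noncomputable section

namespace Groth.Agent.TFOneLib

variable {X : Scheme.{u}}

/-- The Krull dimension is bounded by that of the components. -/
theorem topologicalKrullDim_le_of_components {D : WithBot ℕ∞}
    (h : ∀ C ∈ irreducibleComponents (X : Type u), topologicalKrullDim C ≤ D) :
    topologicalKrullDim X ≤ D := by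
  classical
  refine iSup_le fun p => ?_
  obtain ⟨C, hC, hle⟩ := exists_mem_irreducibleComponents_subset_of_isIrreducible _ p.last.isIrreducible'
  have hp : ∀ i, (p i : Set X) ⊆ C := fun i => fun x hx =>
    hle (p.monotone (Fin.le_last i) hx)
  choose g hg using fun i => QuasiSober.sober (p i).isIrreducible' (p i).isClosed'
  let g' : Fin (p.length + 1) → C := fun i => ⟨g i, hp i (hg i).mem⟩
  let c : C → IrreducibleCloseds C := fun z =>
    ⟨closure {z}, isIrreducible_singleton.closure, isClosed_closure⟩
  have hlt : ∀ i : Fin p.length, c (g' i.castSucc) < c (g' i.succ) := fun i => by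
    have hle' : (p i.castSucc : Set X) ⊆ p i.succ := (p.step i).le
    have hs : g' i.succ ⤳ g' i.castSucc :=
      (subtype_specializes_iff _ _).2 ((hg i.succ).specializes (hle' (hg i.castSucc).mem))
    refine lt_of_le_of_ne (closure_minimal (Set.singleton_subset_iff.2 (specializes_iff_mem_closure.1 hs))
      isClosed_closure) fun e => (p.step i).ne (IrreducibleCloseds.ext ?_)
    have h2 : g i.castSucc = g i.succ := by
      have h3 : g' i.castSucc ⤳ g' i.succ := specializes_iff_mem_closure.2 (by
        have : (closure {g' i.castSucc} : Set C) = closure {g' i.succ} := congrArg IrreducibleCloseds.carrier e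
        rw [this]; exact subset_closure rfl)
      exact (((subtype_specializes_iff _ _).1 h3).antisymm ((subtype_specializes_iff _ _).1 hs)).eq
    show (p i.castSucc).carrier = (p i.succ).carrier
    exact (hg i.castSucc).def.symm.trans ((congrArg (fun t => closure ({t} : Set X)) h2).trans (hg i.succ).def)
  let q : LTSeries (IrreducibleCloseds C) := ⟨p.length, fun i => c (g' i), hlt⟩
  exact le_trans (le_iSup (fun r : LTSeries (IrreducibleCloseds C) => (r.length : WithBot ℕ∞)) q) (h C hC)

/-- On a curve a closed set without generic points has dimension zero. -/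
theorem dim_le_zero_of_disjoint [NoetherianSpace X] (hdim : topologicalKrullDim X ≤ 1) {C : Set X}
    (hC : IsClosed C) (h : ∀ η ∈ genericPoints X, η ∉ C) : topologicalKrullDim C ≤ 0 := by
  obtain ⟨hf, hc⟩ := PicCurveLib.finite_of_disjoint_genPts hdim hC h
  haveI : Finite C := hf.to_subtype
  haveI : T1Space C := ⟨fun y => by
    have he : ({y} : Set C) = Subtype.val ⁻¹' {(y : X)} := by
      ext z; simp [Subtype.ext_iff]
    rw [he]
    exact (hc y.1 y.2).preimage continuous_subtype_val⟩
  exact topologicalKrullDim_zero_of_discreteTopology C

/-- A component through a generic point is its closure. -/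
theorem eq_closure_of_mem {η : X} (hη : η ∈ genericPoints X) {C : Set X} (hC : C ∈ irreducibleComponents (X : Type u))
    (h : η ∈ C) : C = closure {η} := by
  have h1 : closure ({η} : Set X) ⊆ C :=
    closure_minimal (Set.singleton_subset_iff.2 h) (isClosed_of_mem_irreducibleComponents C hC)
  exact Set.Subset.antisymm ((hη : closure {η} ∈ irreducibleComponents (X : Type u)).2 hC.1 h1) h1

/-- A generic point lies in a union of components iff its component is among them. -/
theorem mem_sUnion_iff {η : X} (hη : η ∈ genericPoints X) {p : Set X → Prop} :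
    η ∈ ⋃₀ {C | C ∈ irreducibleComponents (X : Type u) ∧ p C} ↔ p (closure {η}) := by
  refine ⟨?_, fun h => ⟨closure {η}, ⟨hη, h⟩, subset_closure rfl⟩⟩
  rintro ⟨C, ⟨hC, hp⟩, h⟩
  rwa [← eq_closure_of_mem hη hC h]

/-- For a closed set, being in it is containing the component. -/
theorem closure_subset_iff {η : X} {Y : Set X} (hY : IsClosed Y) : closure {η} ⊆ Y ↔ η ∈ Y := by
  rw [hY.closure_subset_iff, Set.singleton_subset_iff]

end Groth.Agent.TFOneLib
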