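import Groth.Agent.TFOneLib.Basic
import Groth.Agent.TFOneLib.Dim
import Groth.Agent.CurveLib.Deg
import Groth.Agent.CurveLib.Euler
import Groth.Agent.FormalSysLib.Left
import Groth.Agent.QCohLib.Coherent

/-!
# Euler characteristics of the torsion-free quotients on subcurves
-/

set_option autoImplicit false
set_option backward.isDefEq.respectTransparency false
set_option linter.style.haveILetI false

universe u

open CategoryTheory CategoryTheory.Limits AlgebraicGeometry TopologicalSpace Opposite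

noncomputable section

namespace Groth.Agent.TFOneLib

open MeroLib (IsMaxPt)
open PullbackMod

variable {k : Type u} [Field k] {X : Scheme.{u}} [X.Over (Spec (CommRingCat.of k))]
  [IsProper (X ↘ Spec (CommRingCat.of k))] [IsReduced X]

/-- An epimorphism of coherent modules on a curve which is injective at the maximal points does not
increase the Euler characteristic. -/
theorem euler_le_of_epi (hdim : topologicalKrullDim X ≤ 1) {P Q : X.Modules} (hP : Coh.IsCoh P)
    (hQ : Coh.IsCoh Q) (f : P ⟶ Q) [Epi f] (h : ∀ η, IsMaxPt η → Function.Injective (stalkLin f η)) :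
    Curv2.euler k X Q ≤ Curv2.euler k X P := by
  haveI := EulerIneqLib.isNoetherian_proper (X := X) k
  have hK : Coh.IsCoh (kernel f) := (QCohLib.isCoh_kernel_cokernel f hP hQ).1
  have hsupp : ∀ η ∈ genericPoints X, η ∉ CohB1.support (kernel f) := fun η hη => by
    rw [← subsingleton_stalk_iff]
    refine subsingleton_of_forall_eq 0 fun z => ?_
    have hinj : Function.Injective (stalkLin (kernel.ι f) η) :=
      (mono_iff_stalk (kernel.ι f)).1 inferInstance η
    refine hinj (h η ((isMaxPt_iff_genericPoints η).2 hη) ?_)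
    rw [map_zero, map_zero, ← LinearMap.comp_apply, ← stalkLin_comp, kernel.condition, stalkLin_zero,
      LinearMap.zero_apply]
  have hcl := isClosed_support_of_isFT hK.2
  have hd := dim_le_zero_of_disjoint hdim hcl hsupp
  have h0 : 0 ≤ Curv2.euler k X (kernel f) := by
    rw [CurveLib.euler_of_dim_le_zero hcl subset_rfl hd]
    exact Int.natCast_nonneg _
  have hS : (ShortComplex.mk (kernel.ι f) f (kernel.condition f)).ShortExact :=
    { exact := ShortComplex.exact_of_f_is_kernel _ (kernelIsKernel f) }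
  have := CurveLib.euler_shortExact (K := k) hS hK hP hQ
  dsimp at this
  omega

/-- `χ(M_U) + χ(M_W) ≤ χ(M_Y) + χ(M_Z)`. -/
theorem euler_union_add_inter_le (hdim : topologicalKrullDim X ≤ 1) {M : X.Modules} (hM : TFOne.IsTF1 X M)
    {Y Z U W : Set X} (hU : ∀ η, IsMaxPt η → (η ∈ U ↔ η ∈ Y ∨ η ∈ Z))
    (hW : ∀ η, IsMaxPt η → (η ∈ W ↔ η ∈ Y ∧ η ∈ Z))
    {GY GZ GU GW : X.Modules} {πY : M ⟶ GY} {πZ : M ⟶ GZ} {πU : M ⟶ GU} {πW : M ⟶ GW}
    (hGY : TFOne.IsQuotOn X M Y GY πY) (hGZ : TFOne.IsQuotOn X M Z GZ πZ)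
    (hGU : TFOne.IsQuotOn X M U GU πU) (hGW : TFOne.IsQuotOn X M W GW πW) :
    Curv2.euler k X GU + Curv2.euler k X GW ≤ Curv2.euler k X GY + Curv2.euler k X GZ := by
  haveI := EulerIneqLib.isNoetherian_proper (X := X) k
  have hR := hM.2.2
  haveI := hGU.1
  haveI := hGU.2.1.1
  obtain ⟨fY, hfY, -⟩ := exists_restrict hR hGU hGY fun η hη h => (hU η hη).2 (Or.inl h)
  obtain ⟨fZ, hfZ, -⟩ := exists_restrict hR hGU hGZ fun η hη h => (hU η hη).2 (Or.inr h)
  obtain ⟨gY, hgY, hgYe⟩ := exists_restrict hR hGY hGW fun η hη h => ((hW η hη).1 h).1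
  obtain ⟨gZ, hgZ, -⟩ := exists_restrict hR hGZ hGW fun η hη h => ((hW η hη).1 h).2
  let i : GU ⟶ GY ⊞ GZ := biprod.lift fY fZ
  let q : GY ⊞ GZ ⟶ GW := biprod.desc gY (-gZ)
  have hqi : i ≫ q = 0 := by
    rw [← cancel_epi πU, biprod.lift_desc, Preadditive.comp_neg, ← sub_eq_add_neg, Preadditive.comp_sub,
      ← Category.assoc, hfY, hgY, ← Category.assoc, hfZ, hgZ, sub_self, comp_zero]
  haveI : Epi q := by
    haveI := hgYe
    haveI : Epi (biprod.inl ≫ q) := by rw [biprod.inl_desc]; infer_instance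
    exact epi_of_epi biprod.inl q
  have hfst : ∀ η (z : GU.presheaf.stalk η),
      stalkLin (biprod.fst : GY ⊞ GZ ⟶ GY) η (stalkLin i η z) = stalkLin fY η z := fun η z => by
    rw [← LinearMap.comp_apply, ← stalkLin_comp, biprod.lift_fst]
  have hsnd : ∀ η (z : GU.presheaf.stalk η),
      stalkLin (biprod.snd : GY ⊞ GZ ⟶ GZ) η (stalkLin i η z) = stalkLin fZ η z := fun η z => by
    rw [← LinearMap.comp_apply, ← stalkLin_comp, biprod.lift_snd]
  have hcY : ∀ η z, stalkLin fY η (stalkLin πU η z) = stalkLin πY η z := fun η z => by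
    rw [← LinearMap.comp_apply, ← stalkLin_comp, hfY]
  have hcZ : ∀ η z, stalkLin fZ η (stalkLin πU η z) = stalkLin πZ η z := fun η z => by
    rw [← LinearMap.comp_apply, ← stalkLin_comp, hfZ]
  haveI : Mono i := by
    refine mono_of_maxPt hGU.2.2.1 i fun η hη => ?_
    refine (injective_iff_map_eq_zero _).2 fun z hz => ?_
    by_cases hηU : η ∈ U
    · obtain ⟨m, rfl⟩ := (bijective_stalk hR hGU hη hηU).2 z
      rcases (hU η hη).1 hηU with h | h
      · have h' : stalkLin πY η m = 0 := by rw [← hcY, ← hfst, hz, map_zero]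
        rw [(bijective_stalk hR hGY hη h).1 (h'.trans (map_zero _).symm), map_zero]
      · have h' : stalkLin πZ η m = 0 := by rw [← hcZ, ← hsnd, hz, map_zero]
        rw [(bijective_stalk hR hGZ hη h).1 (h'.trans (map_zero _).symm), map_zero]
    · exact stalk_zero_of_notMem hGU hηU z
  have hB : Coh.IsCoh (GY ⊞ GZ) := FormalSys.isCoh_biprod hGY.2.1 hGZ.2.1
  have hQ : Coh.IsCoh (cokernel i) := (QCohLib.isCoh_kernel_cokernel i hGU.2.1 hB).2
  let qb : cokernel i ⟶ GW := cokernel.desc i q hqi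
  haveI : Epi qb := by
    haveI : Epi (cokernel.π i ≫ qb) := by rw [cokernel.π_desc]; infer_instance
    exact epi_of_epi (cokernel.π i) qb
  have key : ∀ η, IsMaxPt η → Function.Injective (stalkLin qb η) := fun η hη => by
    refine (injective_iff_map_eq_zero _).2 fun z hz => ?_
    obtain ⟨e, rfl⟩ := (epi_iff_stalk (cokernel.π i)).1 inferInstance η z
    rw [← LinearMap.comp_apply, ← stalkLin_comp, cokernel.π_desc] at hz
    suffices h : ∃ m, e = stalkLin i η (stalkLin πU η m) by
      obtain ⟨m, rfl⟩ := h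
      rw [← LinearMap.comp_apply, ← stalkLin_comp, cokernel.condition, stalkLin_zero, LinearMap.zero_apply]
    have hext : ∀ m, stalkLin (biprod.fst : GY ⊞ GZ ⟶ GY) η e = stalkLin πY η m →
        stalkLin (biprod.snd : GY ⊞ GZ ⟶ GZ) η e = stalkLin πZ η m →
        ∃ m, e = stalkLin i η (stalkLin πU η m) := fun m h1 h2 =>
      ⟨m, sub_eq_zero.1 (biprod_ext_stalk η (by rw [map_sub, hfst, hcY, h1, sub_self])
        (by rw [map_sub, hsnd, hcZ, h2, sub_self]))⟩
    by_cases hY : η ∈ Y
    · obtain ⟨m, hm⟩ := (bijective_stalk hR hGY hη hY).2 (stalkLin (biprod.fst : GY ⊞ GZ ⟶ GY) η e)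
      refine hext m hm.symm ?_
      by_cases hZ : η ∈ Z
      · obtain ⟨m', hm'⟩ := (bijective_stalk hR hGZ hη hZ).2 (stalkLin (biprod.snd : GY ⊞ GZ ⟶ GZ) η e)
        rw [show q = biprod.fst ≫ gY + biprod.snd ≫ (-gZ) from biprod.desc_eq, stalkLin_add, LinearMap.add_apply, stalkLin_comp, stalkLin_comp,
          LinearMap.comp_apply, LinearMap.comp_apply, stalkLin_neg, LinearMap.neg_apply, ← hm, ← hm',
          ← LinearMap.comp_apply, ← stalkLin_comp, hgY, ← LinearMap.comp_apply, ← stalkLin_comp, hgZ,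
          ← sub_eq_add_neg, sub_eq_zero] at hz
        rw [← hm', (bijective_stalk hR hGW hη ((hW η hη).2 ⟨hY, hZ⟩)).1 hz]
      · exact (stalk_zero_of_notMem hGZ hZ _).trans (stalk_zero_of_notMem hGZ hZ _).symm
    · by_cases hZ : η ∈ Z
      · obtain ⟨m, hm⟩ := (bijective_stalk hR hGZ hη hZ).2 (stalkLin (biprod.snd : GY ⊞ GZ ⟶ GZ) η e)
        exact hext m ((stalk_zero_of_notMem hGY hY _).trans (stalk_zero_of_notMem hGY hY _).symm) hm.symm
      · exact hext 0 ((stalk_zero_of_notMem hGY hY _).trans (stalk_zero_of_notMem hGY hY _).symm)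
          ((stalk_zero_of_notMem hGZ hZ _).trans (stalk_zero_of_notMem hGZ hZ _).symm)
  have h1 := euler_le_of_epi (k := k) hdim hQ hGW.2.1 qb key
  have h2 := CurveLib.euler_shortExact (K := k)
    (ShortComplex.ShortExact.mk (S := ShortComplex.mk i (cokernel.π i) (cokernel.condition i))
      (ShortComplex.exact_of_g_is_cokernel _ (cokernelIsCokernel i))) hGU.2.1 hB hQ
  have h3 := CurveLib.euler_shortExact (K := k)
    (ShortComplex.Splitting.ofHasBinaryBiproduct GY GZ).shortExact hGY.2.1 hB hGZ.2.1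
  dsimp at h2 h3
  omega

end Groth.Agent.TFOneLib
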