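import Groth.Prelude.Def_TFOne
import Groth.Agent.AssLib.Basic
import Groth.Agent.MeroLib.Total
import Groth.Agent.TorRankLib.Basic
import Groth.Agent.PullbackMod.Hom
import Groth.Agent.PullbackMod.SuppClosed
import Groth.Agent.PicCurveLib.Generic
import Groth.Agent.S6295
import Groth.Agent.EulerIneqLib.Basic
import Groth.Agent.FormalLib.ModPow

/-!
# Torsion-free modules of rank one on reduced schemes through the maximal points
-/

set_option autoImplicit false
set_option backward.isDefEq.respectTransparency false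
set_option linter.style.haveILetI false

universe u

open CategoryTheory CategoryTheory.Limits AlgebraicGeometry TopologicalSpace Opposite

noncomputable section

namespace Groth.Agent.TFOneLib

open MeroLib (IsMaxPt)
open PullbackMod

variable {X : Scheme.{u}}

theorem isMaxPt_iff_genericPoints (η : X) : IsMaxPt η ↔ η ∈ genericPoints X := MeroLib.isMaxPt_iff η

variable [IsReduced X] [IsLocallyNoetherian X]

/-- A section of a torsion-free module with zero germs at the maximal points vanishes. -/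
theorem eq_zero_of_maxPt {F : X.Modules} [Coh.IsQCoh F] (htF : TorSh.IsTorsionFree F) {U : X.Opens}
    (s : Γ(F, U)) (hs : ∀ η (hη : η ∈ U), IsMaxPt η → F.presheaf.germ U η hη s = 0) : s = 0 := by
  classical
  refine AssLib.eq_zero_of_germ F s fun y hy => ?_
  obtain ⟨W, hW, hyW, hWU⟩ := exists_isAffineOpen_mem_and_subset (X := X) (x := y) (U := U) hy
  let m : Γ(F, W) := F.presheaf.map (homOfLE hWU).op s
  rw [show F.presheaf.germ U y hy s = F.presheaf.germ W y hyW m from
    (TopCat.Presheaf.germ_res_apply F.presheaf (homOfLE hWU) y hyW s).symm]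
  letI : Algebra Γ(X, W) (X.presheaf.stalk y) := TopCat.Presheaf.algebra_section_stalk X.presheaf ⟨y, hyW⟩
  haveI := hW.isLocalization_stalk ⟨y, hyW⟩
  let J : Ideal (X.presheaf.stalk y) :=
    LinearMap.ker (LinearMap.toSpanSingleton (X.presheaf.stalk y) (F.presheaf.stalk y) (F.presheaf.germ W y hyW m))
  have hJ : ∀ Q ∈ minimalPrimes (X.presheaf.stalk y), ¬ J ≤ Q := fun Q hQ hle => by
    haveI := hQ.1.1
    let q : PrimeSpectrum Γ(X, W) := ⟨Q.comap (algebraMap Γ(X, W) (X.presheaf.stalk y)), inferInstance⟩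
    let η := AssLib.pt hW q
    have hηW : η ∈ W := AssLib.pt_mem hW q
    have hpr : AssLib.pr hW hηW = q.asIdeal := AssLib.pr_pt hW q
    have hqy : q.asIdeal ≤ AssLib.pr hW hyW := by
      rw [← AssLib.under_maximalIdeal hW hyW]
      exact Ideal.comap_mono (IsLocalRing.le_maximalIdeal Ideal.IsPrime.ne_top')
    have hmax : IsMaxPt η := fun z hz => by
      have hzW : z ∈ W := AssLib.mem_of_specializes hz hηW
      have h1 : AssLib.pr hW hzW ≤ q.asIdeal := hpr ▸ (AssLib.specializes_iff hW hηW hzW).1 hz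
      have h2 : AssLib.pr hW hzW = q.asIdeal := by
        refine le_antisymm h1 ?_
        have hd : Disjoint ((AssLib.pr hW hyW).primeCompl : Set Γ(X, W)) (AssLib.pr hW hzW) :=
          Set.disjoint_left.2 fun a ha ha' => ha (hqy (h1 ha'))
        have h3 := IsLocalization.isPrime_of_isPrime_disjoint (AssLib.pr hW hyW).primeCompl
          (X.presheaf.stalk y) (AssLib.pr hW hzW) inferInstance hd
        have h4 : (AssLib.pr hW hzW).map (algebraMap Γ(X, W) (X.presheaf.stalk y)) ≤ Q :=
          Ideal.map_le_iff_le_comap.2 h1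
        have h5 := hQ.2 ⟨h3, bot_le⟩ h4
        calc q.asIdeal ≤ ((AssLib.pr hW hzW).map (algebraMap Γ(X, W) (X.presheaf.stalk y))).comap
              (algebraMap Γ(X, W) (X.presheaf.stalk y)) := Ideal.comap_mono h5
          _ = AssLib.pr hW hzW := IsLocalization.under_map_of_isPrime_disjoint _ _ inferInstance hd
      calc z = AssLib.pt hW (hW.primeIdealOf ⟨z, hzW⟩) := (AssLib.pt_primeIdealOf hW hzW).symm
        _ = AssLib.pt hW (hW.primeIdealOf ⟨η, hηW⟩) := by
          congr 1
          exact PrimeSpectrum.ext (h2.trans hpr.symm)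
        _ = η := AssLib.pt_primeIdealOf hW hηW
    have hη : F.presheaf.germ W η hηW m = 0 :=
      (TopCat.Presheaf.germ_res_apply F.presheaf (homOfLE hWU) η hηW s).trans (hs η (hWU hηW) hmax)
    obtain ⟨a, ha, ham⟩ := (AssLib.germ_eq_zero_iff hW hηW m).1 hη
    refine ha (hpr ▸ hle ?_)
    show (X.presheaf.germ W y hyW a) • F.presheaf.germ W y hyW m = 0
    rw [← TorRankLib.germ_smul', ham, map_zero]
  obtain ⟨r, hrJ, hr⟩ := Set.not_subset.1 (fun h : (J : Set (X.presheaf.stalk y)) ⊆
      ⋃ Q ∈ ((minimalPrimes.finite_of_isNoetherianRing (X.presheaf.stalk y)).toFinset : Set (Ideal (X.presheaf.stalk y))), (Q : Set _) => by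
    obtain ⟨Q, hQ, hle⟩ := (Ideal.subset_union_prime ⊥ ⊥ fun Q hQ _ _ => ((Set.Finite.mem_toFinset _).1 hQ).1.1).1 h
    exact hJ Q ((Set.Finite.mem_toFinset _).1 hQ) hle)
  have hreg : r ∈ nonZeroDivisors (X.presheaf.stalk y) := by
    by_contra hn
    obtain ⟨Q, hQ, hrQ⟩ := ((Groth.Agent.S6295.result (X.presheaf.stalk y)).2.2 r).1 hn
    exact hr (Set.mem_biUnion (by simpa using hQ) hrQ)
  refine (htF y).isSMulRegular (isRegular_iff_mem_nonZeroDivisors.2 hreg) ?_
  exact (show r • F.presheaf.germ W y hyW m = 0 from hrJ).trans (smul_zero _).symm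

/-- A map into a torsion-free module is zero if it is zero at the maximal points. -/
theorem hom_eq_zero {F G : X.Modules} [Coh.IsQCoh G] (htG : TorSh.IsTorsionFree G) (f : F ⟶ G)
    (h : ∀ η, IsMaxPt η → stalkLin f η = 0) : f = 0 := by
  refine Scheme.Modules.hom_ext _ _ fun U => AddCommGrpCat.hom_ext (AddMonoidHom.ext fun s => ?_)
  show f.app U s = 0
  refine eq_zero_of_maxPt htG _ fun η hη hmax => ?_
  rw [← stalkLin_germ, h η hmax, LinearMap.zero_apply]

/-- A map out of a torsion-free module is mono if it is injective at the maximal points. -/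
theorem mono_of_maxPt {F G : X.Modules} [Coh.IsQCoh F] (htF : TorSh.IsTorsionFree F) (f : F ⟶ G)
    (h : ∀ η, IsMaxPt η → Function.Injective (stalkLin f η)) : Mono f := by
  refine Preadditive.mono_of_kernel_zero (hom_eq_zero htF _ fun η hη => LinearMap.ext fun z => h η hη ?_)
  rw [LinearMap.zero_apply, map_zero, ← LinearMap.comp_apply, ← stalkLin_comp, kernel.condition,
    (eq_zero_iff_stalk _).1 rfl η, LinearMap.zero_apply]

omit [IsReduced X] [IsLocallyNoetherian X] in
theorem stalkLin_zero {F G : X.Modules} (x : X) : stalkLin (0 : F ⟶ G) x = 0 := (eq_zero_iff_stalk _).1 rfl x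

omit [IsReduced X] [IsLocallyNoetherian X] in
theorem stalkLin_add {F G : X.Modules} (f g : F ⟶ G) (x : X) :
    stalkLin (f + g) x = stalkLin f x + stalkLin g x := by
  refine LinearMap.ext fun z => ?_
  obtain ⟨U, hx, m, rfl⟩ := TopCat.Presheaf.exists_germ_eq F.presheaf z
  rw [LinearMap.add_apply, stalkLin_germ, stalkLin_germ, stalkLin_germ, ← map_add]
  rfl

omit [IsReduced X] [IsLocallyNoetherian X] in
theorem stalkLin_neg {F G : X.Modules} (f : F ⟶ G) (x : X) : stalkLin (-f) x = -stalkLin f x :=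
  eq_neg_of_add_eq_zero_left (by rw [← stalkLin_add, neg_add_cancel, stalkLin_zero])

omit [IsReduced X] [IsLocallyNoetherian X] in
theorem stalkLin_sub {F G : X.Modules} (f g : F ⟶ G) (x : X) :
    stalkLin (f - g) x = stalkLin f x - stalkLin g x := by
  rw [sub_eq_add_neg, stalkLin_add, stalkLin_neg, sub_eq_add_neg]

omit [IsReduced X] [IsLocallyNoetherian X] in
theorem biprod_ext_stalk {A B : X.Modules} (x : X) {e : (A ⊞ B).presheaf.stalk x}
    (h₁ : stalkLin (biprod.fst : A ⊞ B ⟶ A) x e = 0) (h₂ : stalkLin (biprod.snd : A ⊞ B ⟶ B) x e = 0) :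
    e = 0 := by
  have h := LinearMap.congr_fun (congrArg (fun φ => stalkLin φ x)
    (biprod.total : (biprod.fst : A ⊞ B ⟶ A) ≫ biprod.inl + biprod.snd ≫ biprod.inr = 𝟙 (A ⊞ B))) e
  simp only [stalkLin_add, stalkLin_comp, stalkLin_id, LinearMap.add_apply, LinearMap.comp_apply,
    LinearMap.id_apply, h₁, h₂, map_zero, add_zero] at h
  exact h.symm

omit [IsReduced X] [IsLocallyNoetherian X] in
theorem subsingleton_stalk_iff (F : X.Modules) (x : X) :
    Subsingleton (F.presheaf.stalk x) ↔ x ∉ CohB1.support F := by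
  show _ ↔ ¬ ¬ _
  exact not_not.symm

/-- The data of a torsion-free rank-one module used through its maximal points. -/
theorem exists_basis {M : X.Modules} (hM : TFOne.IsRkOne X M) {η : X} (hη : IsMaxPt η) :
    ∃ e : M.presheaf.stalk η, e ≠ 0 ∧ ∀ z, ∃ a : X.presheaf.stalk η, a • e = z := by
  obtain ⟨φ⟩ := hM η ((isMaxPt_iff_genericPoints η).1 hη)
  letI := (MeroLib.isField_stalk hη).toField
  refine ⟨φ.symm 1, fun h => one_ne_zero (φ.symm.injective (h.trans (map_zero _).symm)), fun z => ⟨φ z, ?_⟩⟩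
  rw [← map_smul, smul_eq_mul, mul_one, LinearEquiv.symm_apply_apply]

variable {M : X.Modules} {Z : Set X} {G : X.Modules} {π : M ⟶ G}

/-- Off the support the stalk of the quotient is zero. -/
theorem stalk_zero_of_notMem (hG : TFOne.IsQuotOn X M Z G π) {η : X} (hη : η ∉ Z) (z : G.presheaf.stalk η) :
    z = 0 := by
  haveI := (subsingleton_stalk_iff G η).2 (by rw [hG.2.2.2]; exact hη)
  exact Subsingleton.elim _ _

/-- At a maximal point of the support the quotient is an isomorphism. -/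
theorem bijective_stalk (hM : TFOne.IsRkOne X M) (hG : TFOne.IsQuotOn X M Z G π) {η : X} (hη : IsMaxPt η)
    (hηZ : η ∈ Z) : Function.Bijective (stalkLin π η) := by
  haveI := hG.1
  have hsurj := (epi_iff_stalk π).1 inferInstance η
  refine ⟨(injective_iff_map_eq_zero _).2 fun z hz => ?_, hsurj⟩
  obtain ⟨e, he, hspan⟩ := exists_basis hM hη
  letI := (MeroLib.isField_stalk hη).toField
  obtain ⟨a, rfl⟩ := hspan z
  rw [map_smul] at hz
  rcases eq_or_ne a 0 with rfl | ha
  · exact zero_smul _ _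
  exfalso
  have h0 : stalkLin π η e = 0 := by
    rw [← one_smul (X.presheaf.stalk η) (stalkLin π η e), ← inv_mul_cancel₀ ha, mul_smul, hz, smul_zero]
  have hs : Subsingleton (G.presheaf.stalk η) := ⟨fun x y => by
    obtain ⟨x, rfl⟩ := hsurj x
    obtain ⟨y, rfl⟩ := hsurj y
    obtain ⟨b, rfl⟩ := hspan x
    obtain ⟨c, rfl⟩ := hspan y
    simp [map_smul, h0]⟩
  exact (subsingleton_stalk_iff G η).1 hs (by rw [hG.2.2.2]; exact hηZ)

/-- Maps which kill, at the maximal points of the target, what the quotient kills factor through it. -/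
theorem exists_factor (hM : TFOne.IsRkOne X M) (hG : TFOne.IsQuotOn X M Z G π) {H : X.Modules} [Coh.IsQCoh H]
    (htH : TorSh.IsTorsionFree H) (h : M ⟶ H)
    (hz : ∀ η, IsMaxPt η → η ∉ Z → stalkLin h η = 0) : ∃ g : G ⟶ H, π ≫ g = h := by
  haveI := hG.1
  have h0 : kernel.ι π ≫ h = 0 := by
    refine hom_eq_zero htH _ fun η hη => ?_
    rw [stalkLin_comp]
    by_cases hηZ : η ∈ Z
    · have : stalkLin (kernel.ι π) η = 0 := LinearMap.ext fun z => (bijective_stalk hM hG hη hηZ).1 (by
        rw [LinearMap.zero_apply, map_zero, ← LinearMap.comp_apply, ← stalkLin_comp, kernel.condition,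
          stalkLin_zero, LinearMap.zero_apply])
      rw [this, LinearMap.comp_zero]
    · rw [hz η hη hηZ, LinearMap.zero_comp]
  exact ⟨Abelian.epiDesc π h (by simpa using h0), Abelian.comp_epiDesc _ _ _⟩

theorem exists_restrict (hM : TFOne.IsRkOne X M) (hG : TFOne.IsQuotOn X M Z G π) {Z' : Set X} {G' : X.Modules}
    {π' : M ⟶ G'} (hG' : TFOne.IsQuotOn X M Z' G' π') (hle : ∀ η, IsMaxPt η → η ∈ Z' → η ∈ Z) :
    ∃ g : G ⟶ G', π ≫ g = π' ∧ Epi g := by
  haveI := hG'.2.1.1
  obtain ⟨g, hg⟩ := exists_factor hM hG hG'.2.2.1 π' fun η hη hηZ => LinearMap.ext fun z => by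
    rw [LinearMap.zero_apply]
    exact stalk_zero_of_notMem hG' (fun h => hηZ (hle η hη h)) _
  haveI := hG'.1
  haveI : Epi (π ≫ g) := by rw [hg]; infer_instance
  exact ⟨g, hg, epi_of_epi π g⟩

section scalar

variable (k : Type u) [Field k] [X.Over (Spec (CommRingCat.of k))]

omit [IsReduced X] [IsLocallyNoetherian X] in
theorem stalkLin_smulMod (F : X.Modules) (a : k) (x : X) (z : F.presheaf.stalk x) :
    stalkLin (Formal.smulMod k F a) x z =
      X.presheaf.germ ⊤ x trivial (Coh.toGlobal (X ↘ Spec (CommRingCat.of k)) a) • z := by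
  obtain ⟨U, hx, m, rfl⟩ := TopCat.Presheaf.exists_germ_eq F.presheaf z
  rw [stalkLin_germ]
  show F.presheaf.germ U x hx ((show Γ(X, U) from Coh.resTop X (op U) (Coh.toGlobal (X ↘ Spec (CommRingCat.of k)) a)) • m) = _
  rw [TorRankLib.germ_smul']
  congr 1
  exact TopCat.Presheaf.germ_res_apply X.presheaf (homOfLE le_top) x hx _

omit [IsLocallyNoetherian X] in
theorem scalar_ext {F : X.Modules} {η : X} (hη : IsMaxPt η) {a b : k} {z : F.presheaf.stalk η} (hz : z ≠ 0)
    (h : X.presheaf.germ ⊤ η trivial (Coh.toGlobal (X ↘ Spec (CommRingCat.of k)) a) • z =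
      X.presheaf.germ ⊤ η trivial (Coh.toGlobal (X ↘ Spec (CommRingCat.of k)) b) • z) : a = b := by
  letI := (MeroLib.isField_stalk hη).toField
  let φ : k →+* X.presheaf.stalk η :=
    (X.presheaf.germ ⊤ η trivial).hom.comp (Coh.toGlobal (X ↘ Spec (CommRingCat.of k)))
  refine φ.injective (sub_eq_zero.1 ?_)
  have h0 : (φ a - φ b) • z = 0 := by rw [sub_smul, sub_eq_zero]; exact h
  exact (smul_eq_zero.1 h0).resolve_right hz

/-- A module whose quotients on two covering closed sets with a common maximal point are simple is simple. -/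
theorem isSimple_of_common (hM : TFOne.IsTF1 X M) {Y : Set X} {GY : X.Modules} {πY : M ⟶ GY}
    (hGY : TFOne.IsQuotOn X M Y GY πY) (hG : TFOne.IsQuotOn X M Z G π)
    (hcov : ∀ η, IsMaxPt η → η ∈ Y ∨ η ∈ Z) {η₀ : X} (h0 : IsMaxPt η₀) (h0Y : η₀ ∈ Y) (h0Z : η₀ ∈ Z)
    (hY : TFOne.IsSimple X k (X ↘ Spec (CommRingCat.of k)) GY)
    (hZ : TFOne.IsSimple X k (X ↘ Spec (CommRingCat.of k)) G) :
    TFOne.IsSimple X k (X ↘ Spec (CommRingCat.of k)) M := by
  obtain ⟨e, he, -⟩ := exists_basis hM.2.2 h0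
  refine ⟨fun hzero => he ?_, fun φ => ?_⟩
  · have := LinearMap.congr_fun (congrArg (fun ψ => stalkLin ψ η₀) (hzero.eq_of_src (𝟙 M) 0)) e
    simpa [stalkLin_id, stalkLin_zero] using this
  haveI := hGY.2.1.1
  haveI := hG.2.1.1
  haveI := hM.1.1
  have hind : ∀ {Z' : Set X} {G' : X.Modules} {π' : M ⟶ G'}, TFOne.IsQuotOn X M Z' G' π' →
      ∃ ψ : G' ⟶ G', π' ≫ ψ = φ ≫ π' := fun {Z' G' π'} h' => by
    haveI := h'.2.1.1
    refine exists_factor hM.2.2 h' h'.2.2.1 _ fun η hη hηZ => ?_
    rw [stalkLin_comp]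
    refine LinearMap.ext fun z => ?_
    rw [LinearMap.zero_apply]
    exact stalk_zero_of_notMem h' hηZ _
  obtain ⟨ψY, hψY⟩ := hind hGY
  obtain ⟨ψZ, hψZ⟩ := hind hG
  obtain ⟨a, ha⟩ := hY.2 ψY
  obtain ⟨b, hb⟩ := hZ.2 ψZ
  rw [ha, ← FormalLib.smulMod_natural] at hψY
  rw [hb, ← FormalLib.smulMod_natural] at hψZ
  have key : ∀ η, IsMaxPt η → ∀ z, (η ∈ Y → stalkLin φ η z = stalkLin (Formal.smulMod k M a) η z) ∧
      (η ∈ Z → stalkLin φ η z = stalkLin (Formal.smulMod k M b) η z) := fun η hη z => by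
    refine ⟨fun h => (bijective_stalk hM.2.2 hGY hη h).1 ?_, fun h => (bijective_stalk hM.2.2 hG hη h).1 ?_⟩
    · rw [← LinearMap.comp_apply, ← stalkLin_comp, ← hψY, stalkLin_comp, LinearMap.comp_apply]
    · rw [← LinearMap.comp_apply, ← stalkLin_comp, ← hψZ, stalkLin_comp, LinearMap.comp_apply]
  have hab : a = b := by
    refine scalar_ext k h0 he ?_
    rw [← stalkLin_smulMod, ← stalkLin_smulMod, ← (key η₀ h0 e).1 h0Y, ← (key η₀ h0 e).2 h0Z]
  refine ⟨a, sub_eq_zero.1 (hom_eq_zero hM.2.1 _ fun η hη => LinearMap.ext fun z => ?_)⟩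
  rw [stalkLin_sub, LinearMap.sub_apply, LinearMap.zero_apply, sub_eq_zero]
  rcases hcov η hη with h | h
  · exact (key η hη z).1 h
  · rw [hab]; exact (key η hη z).2 h

end scalar

end Groth.Agent.TFOneLib
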