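import Groth.Prelude.Def_VecSt
import Groth.Agent.GeomGlobal
import Groth.Agent.TFOneLib.Dim

/-! Functions at a generic point of a geometrically integral component algebraic over the ground field. -/

set_option autoImplicit false
set_option backward.isDefEq.respectTransparency false
set_option linter.style.haveILetI false

universe u

open CategoryTheory CategoryTheory.Limits AlgebraicGeometry TopologicalSpace Opposite TensorProduct

noncomputable section

namespace Groth.Agent.TFOneLib

theorem geometricallyReduced_openImmersion_comp {W C S : Scheme.{u}} (j : W ⟶ C) [IsOpenImmersion j] (f : C ⟶ S)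
    [h : GeometricallyReduced f] : GeometricallyReduced (j ≫ f) := by
  refine ⟨geometrically_iff_of_isClosedUnderIsomorphisms.2 fun K _ y => ?_⟩
  haveI : IsReduced (pullback f y) := pullback_of_geometrically h.geometrically_isReduced K y
  haveI : IsReduced (pullback j (pullback.fst f y)) := isReduced_of_isOpenImmersion (pullback.snd j (pullback.fst f y))
  exact isReduced_of_isOpenImmersion (pullbackRightPullbackFstIso f y j).inv

/-- A finite extension over which a non-empty open of a geometrically integral scheme lies is trivial. -/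
theorem bijective_algebraMap_of_factor {k : Type u} [Field k] {F : Type u} [Field F] (φ : k →+* F)
    (hφ : φ.Finite) {C W : Scheme.{u}} (j : W ⟶ C) [IsOpenImmersion j] [Nonempty W]
    (f : C ⟶ Spec (CommRingCat.of k)) [GeometricallyIntegral f] (p : W ⟶ Spec (CommRingCat.of F))
    (hp : p ≫ Spec.map (CommRingCat.ofHom φ) = j ≫ f) :
    Function.Surjective φ := by
  letI := φ.toAlgebra
  haveI : FiniteDimensional k F := hφ
  haveI : Subsingleton ↥(Spec (CommRingCat.of k)) := inferInstanceAs (Subsingleton (PrimeSpectrum k))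
  haveI : IsIntegral C := GeometricallyIntegral.isIntegral_of_subsingleton f
  haveI : IsIntegral W := isIntegral_of_isOpenImmersion j
  haveI : Surjective (j ≫ f) := ⟨fun y => ⟨Classical.arbitrary W, Subsingleton.elim _ _⟩⟩
  haveI := geometricallyReduced_openImmersion_comp j f
  haveI hi : GeometricallyIrreducible (j ≫ f) := inferInstance
  have h := fun (Ω : Type u) [Field Ω] [Algebra k Ω] => GeomGlobal.properties_of_geometric (j ≫ f)
    (CommRingCat.of F) (Field.toIsField F) (CommRingCat.ofHom φ) p hp Ω
  haveI : Algebra.IsSeparable k F := by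
    haveI : _root_.IsReduced (AlgebraicClosure k ⊗[k] F) := by
      have t := (h (AlgebraicClosure k)).1 ‹_›
      exact t
    exact GeomGlobal.isSeparable_of_isReduced k F (AlgebraicClosure k)
  haveI : IsPurelyInseparable k F := GeomGlobal.isPurelyInseparable_of_irreducible k F (by
    have t := (h (AlgebraicClosure F)).2 hi
    exact t)
  exact IsPurelyInseparable.surjective_algebraMap_of_isSeparable k F

variable {k : Type u} [Field k] {X : Scheme.{u}} [X.Over (Spec (CommRingCat.of k))]

/-- The constants at a point. -/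
abbrev cstAt (η : X) : k →+* X.presheaf.stalk η :=
  (X.presheaf.germ ⊤ η trivial).hom.comp (Coh.toGlobal (X ↘ Spec (CommRingCat.of k)))

/-- An element at a generic point of a geometrically integral component, algebraic over `k`, is constant. -/
theorem exists_cstAt_eq {η : X} (C : Set X) (hC : IsClosed C) (hηC : η ∈ C)
    [GeometricallyIntegral (VecSt.subschι X C hC ≫ (X ↘ Spec (CommRingCat.of k)))]
    (hη : IsField (X.presheaf.stalk η)) (a : X.presheaf.stalk η) (P : Polynomial k) (hP : P ≠ 0)
    (ha : P.eval₂ (cstAt η) a = 0) : ∃ c : k, cstAt η c = a := by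
  classical
  letI := hη.toField
  letI : Algebra k (X.presheaf.stalk η) := (cstAt η).toAlgebra
  have hint : IsIntegral k a := isAlgebraic_iff_isIntegral.1 ⟨P, hP, ha⟩
  let q := minpoly k a
  haveI : Fact (Irreducible q) := ⟨minpoly.irreducible hint⟩
  haveI : FiniteDimensional k (AdjoinRoot q) := (AdjoinRoot.powerBasis (minpoly.ne_zero hint)).finite
  obtain ⟨V₀, hηV₀, s, rfl⟩ := TopCat.Presheaf.exists_germ_eq X.presheaf a
  let res : ∀ V : X.Opens, k →+* Γ(X, V) := fun V =>
    (X.presheaf.map (homOfLE le_top).op).hom.comp (Coh.toGlobal (X ↘ Spec (CommRingCat.of k)))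
  have hres : ∀ V (hV : η ∈ V), (X.presheaf.germ V η hV).hom.comp (res V) = cstAt η := fun V hV =>
    RingHom.ext fun c => TopCat.Presheaf.germ_res_apply X.presheaf (homOfLE le_top) η hV _
  have h0 : X.presheaf.germ V₀ η hηV₀ (q.eval₂ (res V₀) s) = X.presheaf.germ V₀ η hηV₀ 0 := by
    rw [map_zero]
    exact (Polynomial.hom_eval₂ q (res V₀) (X.presheaf.germ V₀ η hηV₀).hom s).trans
      (by rw [hres]; exact minpoly.aeval k _)
  obtain ⟨V, hηV, i₁, i₂, hV⟩ := X.presheaf.germ_eq η hηV₀ hηV₀ _ _ h0
  have hV' : q.eval₂ (res V) (X.presheaf.map i₁.op s) = 0 := by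
    have e : (X.presheaf.map i₁.op).hom.comp (res V₀) = res V := RingHom.ext fun c => by
      show (X.presheaf.map _ ≫ X.presheaf.map _) _ = _
      rw [← X.presheaf.map_comp]
      rfl
    rw [← e, ← Polynomial.hom_eval₂]
    exact hV.trans (map_zero _)
  let ψ : AdjoinRoot q →+* Γ(X, V) := AdjoinRoot.lift (res V) _ hV'
  let ι := VecSt.subschι X C hC
  let W : (VecSt.subsch X C hC).Opens := ι ⁻¹ᵁ V
  let p₀ : (show X.Opens from V).toScheme ⟶ Spec (CommRingCat.of (AdjoinRoot q)) := (show X.Opens from V).toSpecΓ ≫ Spec.map (CommRingCat.ofHom ψ)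
  have hp₀ : p₀ ≫ Spec.map (CommRingCat.ofHom (algebraMap k (AdjoinRoot q))) =
      (show X.Opens from V).ι ≫ (X ↘ Spec (CommRingCat.of k)) := by
    have e : CommRingCat.ofHom (algebraMap k (AdjoinRoot q)) ≫ CommRingCat.ofHom ψ =
        ((Scheme.ΓSpecIso (CommRingCat.of k)).inv ≫ (X ↘ Spec (CommRingCat.of k)).appTop) ≫
          X.presheaf.map (homOfLE le_top).op := by
      ext c
      show ψ (AdjoinRoot.of q c) = _
      rw [AdjoinRoot.lift_of]
      rfl
    rw [Category.assoc, ← Spec.map_comp, e, Spec.map_comp, Scheme.Opens.toSpecΓ_SpecMap_presheaf_map_top_assoc,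
      Spec.map_comp, ← Scheme.toSpecΓ_naturality_assoc, toSpecΓ_SpecMap_ΓSpecIso_inv, Category.comp_id]
  have hmem : η ∈ Set.range ι := by
    show η ∈ Set.range (Scheme.IdealSheafData.subschemeι _)
    rw [Scheme.IdealSheafData.range_subschemeι, Scheme.IdealSheafData.coe_support_vanishingIdeal]
    exact hηC
  obtain ⟨c₀, hc₀⟩ := hmem
  haveI : Nonempty W.toScheme := ⟨⟨c₀, show ι c₀ ∈ V from hc₀ ▸ hηV⟩⟩
  obtain ⟨c, hc⟩ := bijective_algebraMap_of_factor (algebraMap k (AdjoinRoot q))
    (RingHom.finite_algebraMap.2 inferInstance) W.ι (ι ≫ (X ↘ Spec (CommRingCat.of k)))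
    ((ι ∣_ V) ≫ p₀) (by rw [Category.assoc, hp₀, morphismRestrict_ι_assoc]) (AdjoinRoot.root q)
  refine ⟨c, ?_⟩
  have h1 : X.presheaf.germ V η hηV (ψ (AdjoinRoot.root q)) = X.presheaf.germ V₀ η hηV₀ s := by
    rw [AdjoinRoot.lift_root]
    exact TopCat.Presheaf.germ_res_apply X.presheaf i₁ η hηV s
  rw [← h1, ← hc]
  show _ = X.presheaf.germ V η hηV (ψ (AdjoinRoot.of q c))
  rw [AdjoinRoot.lift_of]
  exact (DFunLike.congr_fun (hres V hηV) c).symm

end Groth.Agent.TFOneLib
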