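import Groth.Agent.TFOneLib.Chi
import Groth.Agent.TFOneLib.Const
import Groth.Agent.ASBunKS.Coherent

/-!
# Simple and decomposable torsion-free modules of rank one
-/

set_option autoImplicit false
set_option backward.isDefEq.respectTransparency false
set_option linter.style.haveILetI false

universe u

open CategoryTheory CategoryTheory.Limits AlgebraicGeometry TopologicalSpace Opposite

noncomputable section

namespace Groth.Agent.TFOneLib

open MeroLib (IsMaxPt)
open PullbackMod

variable {X : Scheme.{u}} [IsReduced X] {M : X.Modules}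

omit [IsReduced X] in
/-- A point lies in the support as soon as some stalk element is nonzero. -/
theorem mem_support_of_ne {G : X.Modules} {y : X} {z : G.presheaf.stalk y} (hz : z ≠ 0) :
    y ∈ CohB1.support G := fun h => hz (@Subsingleton.elim _ h _ _)

/-- The eigenvalue of an endomorphism at a maximal point. -/
theorem exists_eigen (hM : TFOne.IsRkOne X M) {η : X} (hη : IsMaxPt η) :
    ∃ Θ : End M →+* X.presheaf.stalk η, ∀ (φ : End M) z, stalkLin φ η z = Θ φ • z := by
  obtain ⟨ψ⟩ := hM η ((isMaxPt_iff_genericPoints η).1 hη)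
  have key : ∀ (φ : End M) z, stalkLin φ η z = ψ (stalkLin φ η (ψ.symm 1)) • z := fun φ z => by
    have hz : z = ψ z • ψ.symm 1 := by
      rw [← map_smul, smul_eq_mul, mul_one, LinearEquiv.symm_apply_apply]
    apply ψ.injective
    conv_lhs => rw [hz, map_smul, map_smul]
    rw [map_smul, smul_eq_mul, smul_eq_mul, mul_comm]
  refine ⟨{
    toFun := fun φ => ψ (stalkLin φ η (ψ.symm 1))
    map_one' := by rw [End.one_def, stalkLin_id, LinearMap.id_apply, LinearEquiv.apply_symm_apply]
    map_zero' := by rw [stalkLin_zero, LinearMap.zero_apply, map_zero]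
    map_add' := fun a b => by rw [stalkLin_add, LinearMap.add_apply, map_add]
    map_mul' := fun a b => by
      rw [End.mul_def, stalkLin_comp, LinearMap.comp_apply, key a, map_smul, smul_eq_mul] }, key⟩

variable [IsLocallyNoetherian X]

/-- A torsion-free coherent module whose maximal points in the support are those of a closed set
that is the union of their closures has that support. -/
theorem support_eq_of_maxPt {G : X.Modules} (hG : Coh.IsCoh G) (htG : TorSh.IsTorsionFree G) {Y : Set X}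
    (hY : IsClosed Y) (hYd : ∀ y ∈ Y, ∃ η, IsMaxPt η ∧ η ∈ Y ∧ η ⤳ y)
    (h : ∀ η, IsMaxPt η → (η ∈ CohB1.support G ↔ η ∈ Y)) : CohB1.support G = Y := by
  haveI := hG.1
  refine Set.Subset.antisymm (fun y hy => by_contra fun hyY => hy ?_) fun y hy => ?_
  · refine subsingleton_of_forall_eq 0 fun z => ?_
    obtain ⟨U, hyU, s, rfl⟩ := TopCat.Presheaf.exists_germ_eq G.presheaf z
    let V : X.Opens := U ⊓ ⟨Yᶜ, hY.isOpen_compl⟩
    have hyV : y ∈ V := ⟨hyU, hyY⟩
    have h0 : G.presheaf.map (homOfLE (inf_le_left : V ≤ U)).op s = 0 :=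
      eq_zero_of_maxPt htG _ fun η hη hmax => by
        haveI := (subsingleton_stalk_iff G η).2 fun hs => hη.2 ((h η hmax).1 hs)
        exact Subsingleton.elim _ _
    rw [← TopCat.Presheaf.germ_res_apply G.presheaf (homOfLE (inf_le_left : V ≤ U)) y hyV s]
    exact (congrArg (G.presheaf.germ V y hyV) h0).trans (map_zero _)
  · obtain ⟨η, hη, hηY, hs⟩ := hYd y hy
    exact hs.mem_closed (isClosed_support_of_isFT hG.2) ((h η hη).2 hηY)

/-- An idempotent endomorphism cuts out the quotient on the components where it is one. -/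
theorem exists_quot_of_idem [NoetherianSpace X] (hM : TFOne.IsTF1 X M) (e : End M) (he : e * e = e) :
    ∃ (G : X.Modules) (p : M ⟶ G) (i : G ⟶ M), p ≫ i = e ∧ i ≫ p = 𝟙 G ∧
      TFOne.IsQuotOn X M
        (⋃₀ {C | C ∈ irreducibleComponents (X : Type u) ∧ ∃ η, C = closure {η} ∧ stalkLin e η ≠ 0}) G p ∧
      IsClosed (⋃₀ {C | C ∈ irreducibleComponents (X : Type u) ∧ ∃ η, C = closure {η} ∧ stalkLin e η ≠ 0}) := by
  let f : M ⟶ M := 𝟙 M - (show M ⟶ M from e)
  have hfe : f ≫ (show M ⟶ M from e) = 0 := by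
    rw [Preadditive.sub_comp, Category.id_comp, sub_eq_zero]
    exact he.symm
  let p := cokernel.π f
  let i : cokernel f ⟶ M := cokernel.desc f e hfe
  have hpi : p ≫ i = e := cokernel.π_desc _ _ _
  have hep : (show M ⟶ M from e) ≫ p = p := by
    have := cokernel.condition f
    rw [Preadditive.sub_comp, Category.id_comp, sub_eq_zero] at this
    exact this.symm
  have hip : i ≫ p = 𝟙 _ := by
    rw [← cancel_epi p, ← Category.assoc, hpi, hep, Category.comp_id]
  set Y := ⋃₀ {C | C ∈ irreducibleComponents (X : Type u) ∧ ∃ η, C = closure {η} ∧ stalkLin e η ≠ 0}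
  have hY : IsClosed Y := by
    rw [show Y = _ from Set.sUnion_eq_biUnion]
    exact Set.Finite.isClosed_biUnion ((NoetherianSpace.finite_irreducibleComponents (α := X)).subset
      fun C hC => hC.1) fun C hC => isClosed_of_mem_irreducibleComponents C hC.1
  have hG : Coh.IsCoh (cokernel f) := (QCohLib.isCoh_kernel_cokernel f hM.1 hM.1).2
  have hinj : ∀ x, Function.Injective (stalkLin i x) := fun x =>
    Function.LeftInverse.injective (g := stalkLin p x) fun z => by
      rw [← LinearMap.comp_apply, ← stalkLin_comp, hip, stalkLin_id, LinearMap.id_apply]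
  have htG : TorSh.IsTorsionFree (cokernel f) := fun x => by
    haveI := hM.2.1 x
    exact (hinj x).moduleIsTorsionFree (stalkLin i x) (fun r z => map_smul _ r z)
  refine ⟨_, p, i, hpi, hip, ⟨inferInstance, hG, htG, ?_⟩, hY⟩
  refine support_eq_of_maxPt hG htG hY ?_ fun η hη => ?_
  · rintro y ⟨C, ⟨hC, η, rfl, hne⟩, hy⟩
    exact ⟨η, (isMaxPt_iff_genericPoints η).2 hC, ⟨_, ⟨hC, η, rfl, hne⟩, subset_closure rfl⟩,
      specializes_iff_mem_closure.2 hy⟩
  · have hη' := (isMaxPt_iff_genericPoints η).1 hη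
    rw [mem_sUnion_iff hη']
    constructor
    · intro hs
      refine ⟨η, rfl, fun h0 => hs (subsingleton_of_forall_eq 0 fun z => hinj η ?_)⟩
      obtain ⟨m, rfl⟩ := (epi_iff_stalk p).1 inferInstance η z
      rw [map_zero, ← LinearMap.comp_apply, ← stalkLin_comp, hpi, h0, LinearMap.zero_apply]
    · rintro ⟨η', hcl, hne⟩ hs
      obtain rfl : η = η' := (inseparable_iff_closure_eq.2 hcl).eq
      refine hne (LinearMap.ext fun m => ?_)
      rw [← hpi, stalkLin_comp, LinearMap.comp_apply, @Subsingleton.elim _ hs (stalkLin p η m) 0, map_zero,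
        LinearMap.zero_apply]

variable (k : Type u) [Field k] [X.Over (Spec (CommRingCat.of k))]

omit [IsReduced X] [IsLocallyNoetherian X] in
theorem cst_eq_smulMod (F : X.Modules) (c : k) : (VBLib.cst k F c : F ⟶ F) = Formal.smulMod k F c := by
  symm
  rw [VBLib.cst_eq_iff]
  rfl

/-- A decomposable module is not simple. -/
theorem not_isSimple_of_isIso (hM : TFOne.IsTF1 X M) {Y Z : Set X} {GY GZ : X.Modules} {πY : M ⟶ GY}
    {πZ : M ⟶ GZ} (hGY : TFOne.IsQuotOn X M Y GY πY) (hGZ : TFOne.IsQuotOn X M Z GZ πZ)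
    [IsIso (biprod.lift πY πZ)] {η : X} (hη : IsMaxPt η) (hηY : η ∈ Y) {ζ : X} (hζ : IsMaxPt ζ)
    (hζZ : ζ ∈ Z) : ¬ TFOne.IsSimple X k (X ↘ Spec (CommRingCat.of k)) M := by
  rintro ⟨-, hs⟩
  let L := biprod.lift πY πZ
  let φ : M ⟶ M := πY ≫ biprod.inl ≫ inv L
  obtain ⟨a, ha⟩ := hs φ
  have h1 : φ ≫ L = πY ≫ biprod.inl := by simp only [φ, Category.assoc, IsIso.inv_hom_id, Category.comp_id]
  have hY : φ ≫ πY = πY := by
    rw [show πY = L ≫ biprod.fst from (biprod.lift_fst _ _).symm, ← Category.assoc, h1, Category.assoc,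
      biprod.inl_fst, Category.comp_id, biprod.lift_fst]
  have hZ : φ ≫ πZ = 0 := by
    rw [show πZ = L ≫ biprod.snd from (biprod.lift_snd _ _).symm, ← Category.assoc, h1, Category.assoc,
      biprod.inl_snd, comp_zero]
  have h0 : a = 0 := by
    obtain ⟨e, he, -⟩ := exists_basis hM.2.2 hζ
    have hne : stalkLin πZ ζ e ≠ 0 := fun h => he ((bijective_stalk hM.2.2 hGZ hζ hζZ).1 (h.trans (map_zero _).symm))
    refine scalar_ext k hζ hne ?_
    rw [← map_smul, ← stalkLin_smulMod, ← ha, ← LinearMap.comp_apply, ← stalkLin_comp, hZ, stalkLin_zero,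
      LinearMap.zero_apply, map_zero, map_zero, zero_smul]
  have h1' : a = 1 := by
    obtain ⟨e, he, -⟩ := exists_basis hM.2.2 hη
    have hne : stalkLin πY η e ≠ 0 := fun h => he ((bijective_stalk hM.2.2 hGY hη hηY).1 (h.trans (map_zero _).symm))
    refine scalar_ext k hη hne ?_
    rw [← map_smul, ← stalkLin_smulMod, ← ha, ← LinearMap.comp_apply, ← stalkLin_comp, hY, map_one, map_one,
      one_smul]
  exact zero_ne_one (h0.symm.trans h1')

variable [IsProper (X ↘ Spec (CommRingCat.of k))] [Nonempty X]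

/-- A non-simple module has a non-trivial idempotent endomorphism. -/
theorem exists_idem (hgi : ∀ (C : Set X) (hC : C ∈ irreducibleComponents (X : Type u)), GeometricallyIntegral
      (VecSt.subschι X C (isClosed_of_mem_irreducibleComponents C hC) ≫ (X ↘ Spec (CommRingCat.of k))))
    (hM : TFOne.IsTF1 X M) (hns : ¬ TFOne.IsSimple X k (X ↘ Spec (CommRingCat.of k)) M) :
    ∃ e : End M, e * e = e ∧ (∃ η, IsMaxPt η ∧ stalkLin e η ≠ 0) ∧ ∃ η, IsMaxPt η ∧ stalkLin (1 - e) η ≠ 0 := by
  classical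
  haveI := EulerIneqLib.isNoetherian_proper (X := X) k
  letI := ASBunKS.linMod k (X := X)
  haveI : Module.Finite k (End M) := ASBunKS.finite_end k (X ↘ Spec (CommRingCat.of k)) hM.1
  obtain ⟨η₀, hη₀, -⟩ := PicCurveLib.exists_genPt (Classical.arbitrary X : X)
  have hmax₀ : IsMaxPt η₀ := (isMaxPt_iff_genericPoints η₀).2 hη₀
  obtain ⟨e₀, he₀, -⟩ := exists_basis hM.2.2 hmax₀
  have hnz : ¬ IsZero M := fun h => he₀ (by
    have := LinearMap.congr_fun (congrArg (fun ψ => stalkLin ψ η₀) (h.eq_of_src (𝟙 M) 0)) e₀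
    simpa [stalkLin_id, stalkLin_zero] using this)
  obtain ⟨φ, hφ⟩ : ∃ φ : End M, ∀ c : k, φ ≠ Formal.smulMod k M c := by
    by_contra hh
    push_neg at hh
    exact hns ⟨hnz, hh⟩
  have hΘ : ∀ η : X, IsMaxPt η → ∃ Θ : End M →+* X.presheaf.stalk η,
      ∀ (φ : End M) z, stalkLin φ η z = Θ φ • z := fun η hη => exists_eigen hM.2.2 hη
  choose Θ hΘ using hΘ
  have halg : ∀ η hη (c : k), Θ η hη (algebraMap k (End M) c) = cstAt η c := fun η hη c => by
    obtain ⟨z, hz, -⟩ := exists_basis hM.2.2 hη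
    letI := (MeroLib.isField_stalk hη).toField
    refine smul_left_injective _ hz ?_
    show Θ η hη (algebraMap k (End M) c) • z = cstAt η c • z
    rw [← hΘ, Algebra.algebraMap_eq_smul_one, show (c • (1 : End M)) = Formal.smulMod k M c from
      (Category.id_comp _).trans (cst_eq_smulMod k M c), stalkLin_smulMod]
    rfl
  obtain ⟨P, hPm, hP⟩ := Algebra.IsIntegral.isIntegral (R := k) φ
  have hval : ∀ η (hη : IsMaxPt η), ∃ c, cstAt η c = Θ η hη φ := fun η hη => by
    have hC : closure ({η} : Set X) ∈ irreducibleComponents (X : Type u) := (isMaxPt_iff_genericPoints η).1 hη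
    haveI := hgi _ hC
    refine exists_cstAt_eq _ (isClosed_of_mem_irreducibleComponents _ hC) (subset_closure rfl)
      (MeroLib.isField_stalk hη) _ P hPm.ne_zero ?_
    have := congrArg (Θ η hη) hP
    rw [map_zero, Polynomial.hom_eval₂] at this
    rwa [show cstAt η = (Θ η hη).comp (algebraMap k (End M)) from RingHom.ext fun c => (halg η hη c).symm]
  choose val hval using hval
  let a₀ := val η₀ hmax₀
  obtain ⟨η₁, hη₁, hne⟩ : ∃ η hη, val η hη ≠ a₀ := by
    by_contra hh
    push_neg at hh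
    refine hφ a₀ (sub_eq_zero.1 (haveI := hM.1.1; hom_eq_zero hM.2.1 _ fun η hη => LinearMap.ext fun z => ?_))
    rw [stalkLin_sub, LinearMap.sub_apply, LinearMap.zero_apply, sub_eq_zero, stalkLin_smulMod, hΘ η hη, ← hval η hη,
      hh η hη]
    rfl
  let T := {η : X // IsMaxPt η}
  haveI : Finite T := by
    refine Set.Finite.to_subtype (s := {η : X | IsMaxPt η}) ?_
    refine (PicCurveLib.finite_genPts (Y := X)).subset fun η hη => ?_
    exact (isMaxPt_iff_genericPoints η).1 hη
  haveI := Fintype.ofFinite T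
  let S : Finset k := (Finset.univ.image fun t : T => val t.1 t.2).erase a₀
  let Q : Polynomial k := ∏ b ∈ S, Polynomial.C (a₀ - b)⁻¹ * (Polynomial.X - Polynomial.C b)
  have hQ : ∀ η hη, Θ η hη (Polynomial.aeval φ Q) = if val η hη = a₀ then 1 else 0 := fun η hη => by
    have e : Θ η hη (Polynomial.aeval φ Q) = cstAt η (Q.eval (val η hη)) := by
      rw [Polynomial.aeval_def, Polynomial.hom_eval₂, ← hval η hη,
        show (Θ η hη).comp (algebraMap k (End M)) = cstAt η from RingHom.ext fun c => halg η hη c,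
        Polynomial.eval₂_hom]
    rw [e, Polynomial.eval_prod]
    split_ifs with h
    · rw [Finset.prod_eq_one, map_one]
      intro b hb
      rw [h, Polynomial.eval_mul, Polynomial.eval_C, Polynomial.eval_sub, Polynomial.eval_X, Polynomial.eval_C,
        inv_mul_cancel₀ (sub_ne_zero.2 (Finset.ne_of_mem_erase hb).symm)]
    · rw [Finset.prod_eq_zero (i := val η hη), map_zero]
      · exact Finset.mem_erase.2 ⟨h, Finset.mem_image.2 ⟨⟨η, hη⟩, Finset.mem_univ _, rfl⟩⟩
      · simp
  refine ⟨Polynomial.aeval φ Q, ?_, ⟨η₀, hmax₀, fun h => ?_⟩, ⟨η₁, hη₁, fun h => ?_⟩⟩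
  · haveI := hM.1.1
    refine sub_eq_zero.1 (hom_eq_zero hM.2.1 _ fun η hη => LinearMap.ext fun z => ?_)
    rw [stalkLin_sub, LinearMap.sub_apply, LinearMap.zero_apply, hΘ η hη, hΘ η hη, map_mul, hQ η hη]
    split_ifs <;> simp
  · obtain ⟨z, hz, -⟩ := exists_basis hM.2.2 hmax₀
    have := LinearMap.congr_fun h z
    rw [hΘ η₀ hmax₀, hQ η₀ hmax₀, if_pos rfl, one_smul] at this
    exact hz this
  · obtain ⟨z, hz, -⟩ := exists_basis hM.2.2 hη₁
    have := LinearMap.congr_fun h z
    rw [hΘ η₁ hη₁, map_sub, map_one, hQ η₁ hη₁, if_neg hne, sub_zero, one_smul] at this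
    exact hz this

omit [IsReduced X] [IsLocallyNoetherian X] [IsProper (X ↘ Spec (CommRingCat.of k))] [Nonempty X] [X.Over (Spec (CommRingCat.of k))] in
/-- A subcurve contains a maximal point. -/
theorem exists_maxPt_mem {Y : Set X} (hY : VecSt.IsSubcurve X Y) : ∃ η, IsMaxPt η ∧ η ∈ Y := by
  obtain ⟨S, hS, ⟨C, hC⟩, rfl⟩ := hY
  obtain ⟨η, hη⟩ := QuasiSober.sober (hS hC).1 (isClosed_of_mem_irreducibleComponents C (hS hC))
  refine ⟨η, (isMaxPt_iff_genericPoints η).2 ?_, C, hC, hη.mem⟩
  show closure {η} ∈ irreducibleComponents (X : Type u)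
  rw [hη.def]
  exact hS hC

omit [IsLocallyNoetherian X] [IsProper (X ↘ Spec (CommRingCat.of k))] [Nonempty X] [X.Over (Spec (CommRingCat.of k))] in
/-- The subcurve of an idempotent misses the maximal points of the complementary idempotent. -/
theorem ne_univ_of_idem (hM : TFOne.IsTF1 X M) {e : End M} (he : e * e = e) {η : X} (hη : IsMaxPt η)
    (h : stalkLin (1 - e) η ≠ 0) :
    ⋃₀ {C | C ∈ irreducibleComponents (X : Type u) ∧ ∃ η, C = closure {η} ∧ stalkLin e η ≠ 0} ≠ Set.univ := by
  intro hu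
  have hmem : η ∈ (Set.univ : Set X) := trivial
  rw [← hu, mem_sUnion_iff ((isMaxPt_iff_genericPoints η).1 hη)] at hmem
  obtain ⟨η', hcl, hne⟩ := hmem
  obtain rfl : η = η' := (inseparable_iff_closure_eq.2 hcl).eq
  obtain ⟨Θ, hΘ⟩ := exists_eigen hM.2.2 hη
  letI := (MeroLib.isField_stalk hη).toField
  rcases IsIdempotentElem.iff_eq_zero_or_one.1
    (show IsIdempotentElem (Θ e) from (map_mul Θ e e).symm.trans (congrArg Θ he)) with h0 | h1
  · exact hne (LinearMap.ext fun z => by rw [hΘ, h0, zero_smul, LinearMap.zero_apply])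
  · exact h (LinearMap.ext fun z => by rw [hΘ, map_sub, map_one, h1, sub_self, zero_smul, LinearMap.zero_apply])

omit [IsReduced X] [IsLocallyNoetherian X] [IsProper (X ↘ Spec (CommRingCat.of k))] [Nonempty X] [X.Over (Spec (CommRingCat.of k))] in
/-- The subcurve of an idempotent which is nonzero at some maximal point is a subcurve. -/
theorem isSubcurve_of_idem {e : End M} (h : ∃ η, IsMaxPt η ∧ stalkLin e η ≠ 0) :
    VecSt.IsSubcurve X (⋃₀ {C | C ∈ irreducibleComponents (X : Type u) ∧ ∃ η, C = closure {η} ∧ stalkLin e η ≠ 0}) := by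
  obtain ⟨η, hη, hne⟩ := h
  exact ⟨{C | C ∈ irreducibleComponents (X : Type u) ∧ ∃ η, C = closure {η} ∧ stalkLin e η ≠ 0},
    fun C hC => hC.1, ⟨closure {η}, (isMaxPt_iff_genericPoints η).1 hη, η, rfl, hne⟩, rfl⟩

end Groth.Agent.TFOneLib
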