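import Groth.Agent.TFOneLib.Decomp
import Groth.Agent.ChRingLib.Basic
import Groth.Agent.TwistShriek.Scalar
import Groth.Agent.DVRCrit.Generic

/-!
# Extensions of simple torsion-free modules on two subcurves
-/

set_option autoImplicit false
set_option backward.isDefEq.respectTransparency false
set_option linter.style.haveILetI false

universe u

open CategoryTheory CategoryTheory.Limits AlgebraicGeometry TopologicalSpace Opposite

noncomputable section

namespace Groth.Agent.TFOneLib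

open MeroLib (IsMaxPt)
open PullbackMod

variable {X : Scheme.{u}} [IsLocallyNoetherian X]

/-- A map into a direct image from a union of components which is zero at the maximal points is zero. -/
theorem hom_to_push_eq_zero {Z : Scheme.{u}} [IsReduced Z] [IsLocallyNoetherian Z] (ι : Z ⟶ X) [IsClosedImmersion ι]
    (hι : ∀ x, x ∈ Set.range ι → ∃ η, IsMaxPt η ∧ η ∈ Set.range ι ∧ η ⤳ x) {J : Z.Modules} [Coh.IsQCoh J]
    (htJ : TorSh.IsTorsionFree J) {F : X.Modules} (f : F ⟶ (Scheme.Modules.pushforward ι).obj J)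
    (hf : ∀ η, IsMaxPt η → stalkLin f η = 0) : f = 0 := by
  refine Scheme.Modules.hom_ext _ _ fun U => AddCommGrpCat.hom_ext (AddMonoidHom.ext fun s => ?_)
  let t : Γ(J, ι ⁻¹ᵁ U) := f.app U s
  show t = 0
  refine eq_zero_of_maxPt htJ t fun z hz hmax => ?_
  obtain ⟨η, hη, ⟨z', rfl⟩, hs⟩ := hι _ ⟨z, rfl⟩
  obtain rfl : z' = z := hmax z' ((ι.isClosedEmbedding.isInducing.specializes_iff).1 hs)
  have h0 : ((Scheme.Modules.pushforward ι).obj J).presheaf.germ U (ι z') hz (f.app U s) =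
      ((Scheme.Modules.pushforward ι).obj J).presheaf.germ U (ι z') hz 0 := by
    rw [map_zero, ← stalkLin_germ f, hf _ hη, LinearMap.zero_apply]
  obtain ⟨V, hV, i₁, i₂, hVe⟩ := ((Scheme.Modules.pushforward ι).obj J).presheaf.germ_eq (ι z') hz hz _ _ h0
  rw [map_zero] at hVe
  let k : (ι ⁻¹ᵁ V : Z.Opens) ⟶ ι ⁻¹ᵁ U := homOfLE (fun w hw => i₁.le hw)
  rw [← TopCat.Presheaf.germ_res_apply J.presheaf k z' hV t]
  exact (congrArg (J.presheaf.germ (ι ⁻¹ᵁ V) z' hV) hVe).trans (map_zero _)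

variable [IsReduced X] (k : Type u) [Field k] [X.Over (Spec (CommRingCat.of k))]

omit [IsReduced X] [IsLocallyNoetherian X] in
theorem push_smulMod {Z : Scheme.{u}} (ι : Z ⟶ X) (N : Z.Modules) (c : k) :
    (letI : Z.Over (Spec (CommRingCat.of k)) := ⟨ι ≫ (X ↘ Spec (CommRingCat.of k))⟩
     (Scheme.Modules.pushforward ι).map (Formal.smulMod k N c)) =
      Formal.smulMod k ((Scheme.Modules.pushforward ι).obj N) c := by
  refine Eq.trans (congrArg _ ?_) (TwistShriek.pushforward_smulModΓ ι _ N)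
  show Formal.smulModΓ N _ = Formal.smulModΓ N _
  congr 1

/-- A non-split extension of simple modules without a common component is simple. -/
theorem isSimple_iff_not_split {M : X.Modules} (hM : TFOne.IsRkOne X M) [Nonempty X]
    {Y Z : Scheme.{u}} [IsReduced Y] [IsLocallyNoetherian Y] [IsReduced Z] [IsLocallyNoetherian Z]
    (ιY : Y ⟶ X) [IsClosedImmersion ιY] (ιZ : Z ⟶ X) [IsClosedImmersion ιZ]
    (hιY : ∀ x, x ∈ Set.range ιY → ∃ η, IsMaxPt η ∧ η ∈ Set.range ιY ∧ η ⤳ x)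
    (hιZ : ∀ x, x ∈ Set.range ιZ → ∃ η, IsMaxPt η ∧ η ∈ Set.range ιZ ∧ η ⤳ x)
    {I : Y.Modules} [Coh.IsQCoh I] (htI : TorSh.IsTorsionFree I) {J : Z.Modules} [Coh.IsQCoh J]
    (htJ : TorSh.IsTorsionFree J)
    (hIs : TFOne.IsSimple Y k (ιY ≫ (X ↘ Spec (CommRingCat.of k))) I)
    (hJs : TFOne.IsSimple Z k (ιZ ≫ (X ↘ Spec (CommRingCat.of k))) J)
    (a : (Scheme.Modules.pushforward ιY).obj I ⟶ M) (b : M ⟶ (Scheme.Modules.pushforward ιZ).obj J)
    (w : a ≫ b = 0) (hex : (ShortComplex.mk a b w).ShortExact) :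
    TFOne.IsSimple X k (X ↘ Spec (CommRingCat.of k)) M ↔ ¬ IsSplitEpi b := by
  haveI : Mono a := hex.mono_f
  haveI : Epi b := hex.epi_g
  let PI := (Scheme.Modules.pushforward ιY).obj I
  let PJ := (Scheme.Modules.pushforward ιZ).obj J
  have hffY := ChRingLib.ffPush ιY
  have hffZ := ChRingLib.ffPush ιZ
  have hPI : ¬ IsZero PI := fun h => hIs.1 (IsZero.iff_id_eq_zero _ |>.2 (hffY.map_injective (h.eq_of_src _ _)))
  have hPJ : ¬ IsZero PJ := fun h => hJs.1 (IsZero.iff_id_eq_zero _ |>.2 (hffZ.map_injective (h.eq_of_src _ _)))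
  have endI : ∀ φ : PI ⟶ PI, ∃ c, φ = Formal.smulMod k PI c := fun φ => by
    letI : Y.Over (Spec (CommRingCat.of k)) := ⟨ιY ≫ (X ↘ Spec (CommRingCat.of k))⟩
    obtain ⟨c, hc⟩ := hIs.2 (hffY.preimage φ)
    exact ⟨c, by rw [← hffY.map_preimage φ, hc, push_smulMod]⟩
  have endJ : ∀ φ : PJ ⟶ PJ, ∃ c, φ = Formal.smulMod k PJ c := fun φ => by
    letI : Z.Over (Spec (CommRingCat.of k)) := ⟨ιZ ≫ (X ↘ Spec (CommRingCat.of k))⟩
    obtain ⟨c, hc⟩ := hJs.2 (hffZ.preimage φ)
    exact ⟨c, by rw [← hffZ.map_preimage φ, hc, push_smulMod]⟩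
  have hdis : ∀ η, IsMaxPt η → (∀ z : PI.presheaf.stalk η, z = 0) ∨ ∀ z : PJ.presheaf.stalk η, z = 0 := fun η hη => by
    refine or_iff_not_imp_left.2 fun hne z => ?_
    push Not at hne
    obtain ⟨x, hx⟩ := hne
    obtain ⟨m, rfl⟩ := (epi_iff_stalk b).1 inferInstance η z
    obtain ⟨e, he, hspan⟩ := exists_basis hM hη
    letI := (MeroLib.isField_stalk hη).toField
    obtain ⟨r, hr⟩ := hspan (stalkLin a η x)
    have hr0 : r ≠ 0 := by
      rintro rfl
      rw [zero_smul] at hr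
      exact hx ((mono_iff_stalk a).1 inferInstance η (hr.symm.trans (map_zero _).symm))
    obtain ⟨t, rfl⟩ := hspan m
    rw [show t • e = (t * r⁻¹) • stalkLin a η x by rw [← hr, ← mul_smul, inv_mul_cancel_right₀ hr0], map_smul,
      ← LinearMap.comp_apply, ← stalkLin_comp, w, stalkLin_zero, LinearMap.zero_apply, smul_zero]
  have hIJ : ∀ f : PI ⟶ PJ, f = 0 := fun f => hom_to_push_eq_zero ιZ hιZ htJ f fun η hη =>
    LinearMap.ext fun z => by
      rcases hdis η hη with h | h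
      · rw [h z, map_zero, map_zero]
      · exact h _
  have hJI : ∀ f : PJ ⟶ PI, f = 0 := fun f => hom_to_push_eq_zero ιY hιY htI f fun η hη =>
    LinearMap.ext fun z => by
      rcases hdis η hη with h | h
      · exact h _
      · rw [h z, map_zero, map_zero]
  have hmul : ∀ (F : X.Modules) (c d : k), d * c = 1 → Formal.smulMod k F c ≫ Formal.smulMod k F d = 𝟙 F :=
    fun F c d h => by rw [← cst_eq_smulMod, ← cst_eq_smulMod, ← VBLib.cst_mul, h, VBLib.cst_one]
  have hzero : ∀ (F : X.Modules), Formal.smulMod k F 0 = 0 := fun F => by rw [← cst_eq_smulMod, VBLib.cst_zero]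
  constructor
  · rintro ⟨-, hs⟩ hsp
    haveI := hsp
    obtain ⟨c, hc⟩ := hs (b ≫ section_ b)
    have h1 : Formal.smulMod k PJ c = 𝟙 PJ := by
      rw [← cancel_epi b, ← FormalLib.smulMod_natural, ← hc, Category.assoc, IsSplitEpi.id, Category.comp_id]
    have h2 : Formal.smulMod k PI c = 0 := by
      rw [← cancel_mono a, FormalLib.smulMod_natural, ← hc, ← Category.assoc, w, zero_comp, zero_comp]
    rcases eq_or_ne c 0 with hc0 | hc0
    · exact hPJ ((IsZero.iff_id_eq_zero _).2 (by rw [← h1, hc0, hzero]))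
    · exact hPI ((IsZero.iff_id_eq_zero _).2 (by rw [← hmul PI c c⁻¹ (inv_mul_cancel₀ hc0), h2, zero_comp]))
  · intro hns
    refine ⟨fun h => hPI (IsZero.of_mono a h), fun φ => ?_⟩
    let φI : PI ⟶ PI := hex.exact.lift (a ≫ φ) (by
      show (a ≫ φ) ≫ b = 0
      exact hIJ _)
    have hφI : φI ≫ a = a ≫ φ := hex.exact.lift_f _ _
    obtain ⟨c, hc⟩ := endI φI
    rw [hc, FormalLib.smulMod_natural] at hφI
    refine ⟨c, ?_⟩
    rw [← sub_eq_zero]
    set ψ := φ - Formal.smulMod k M c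
    have hψ : a ≫ ψ = 0 := by
      rw [Preadditive.comp_sub, ← hφI, sub_self]
    let χ : PJ ⟶ M := hex.exact.desc ψ hψ
    have hχ : b ≫ χ = ψ := hex.exact.g_desc _ _
    obtain ⟨d, hd⟩ := endJ (χ ≫ b)
    have hd0 : d = 0 := by
      by_contra hd0
      exact hns (IsSplitEpi.mk' ⟨χ ≫ Formal.smulMod k M d⁻¹, by
        rw [Category.assoc, FormalLib.smulMod_natural, ← Category.assoc, hd, hmul PJ d d⁻¹ (inv_mul_cancel₀ hd0)]⟩)
    rw [hd0, hzero] at hd
    rw [← hχ, ← hex.exact.lift_f χ hd, hJI (hex.exact.lift χ hd), zero_comp, comp_zero]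

end Groth.Agent.TFOneLib
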