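import Groth.Agent.TFOneLib.Special
import Groth.Agent.TFOneLib.Basic
import Groth.Agent.SyzLib.Sheaf
import Groth.Agent.BCLib.TensorFun
import Groth.Agent.QCohLib.Coherent
import Groth.Agent.PullbackMod.Props
import Groth.Agent.AmpleEmb.FibreAmple

/-!
# The elementary modification along a quotient of the special fibre
-/

set_option autoImplicit false
set_option backward.isDefEq.respectTransparency false
set_option linter.style.haveILetI false

universe u

open CategoryTheory CategoryTheory.Limits AlgebraicGeometry TopologicalSpace Opposite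

noncomputable section

namespace Groth.Agent.TFOneLib

open PullbackMod DCohLib

variable {X Z : Scheme.{u}} (i : Z ⟶ X)

theorem pushStalk_natural {M N : Z.Modules} (φ : M ⟶ N) (x : Z)
    (z : ((Scheme.Modules.pushforward i).obj M).presheaf.stalk (i x)) :
    pushStalk i N x (stalkLin ((Scheme.Modules.pushforward i).map φ) (i x) z) =
      stalkLin φ x (pushStalk i M x z) := by
  obtain ⟨U, hU, v, rfl⟩ := TopCat.Presheaf.exists_germ_eq ((Scheme.Modules.pushforward i).obj M).presheaf z
  exact ((congrArg _ (stalkLin_germ _ (i x) hU v)).trans (pushStalk_germ i N x hU _)).trans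
    ((stalkLin_germ φ x hU v).symm.trans (congrArg _ (pushStalk_germ i M x hU v).symm))

/-- Exactness of a kernel on stalks. -/
theorem exists_of_stalkLin_eq_zero {M N : X.Modules} (g : M ⟶ N) (x : X) {z : M.presheaf.stalk x}
    (hz : stalkLin g x z = 0) : ∃ v, stalkLin (kernel.ι g) x v = z :=
  (SyzLib.exact_stalkLin' (ShortComplex.mk _ _ (kernel.condition g))
    (ShortComplex.exact_of_f_is_kernel _ (kernelIsKernel g)) x z).1 hz

variable [IsLocallyNoetherian X] [IsClosedImmersion i] {R : Type u} [CommRing R] [IsDomain R]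
  {κ : Type u} [CommRing κ] {ρ : R →+* κ} {f : X ⟶ Spec (CommRingCat.of R)}
  {p : Z ⟶ Spec (CommRingCat.of κ)}

/-- For the kernel `I'` of `I ⟶ i_* i^* I ⟶ i_* P` the sequence `0 → P → i^* I' → i^* I → P → 0` is exact. -/
theorem exists_modif' (hsq : IsPullback i p f (Spec.map (CommRingCat.ofHom ρ))) {t : R} (ht : t ≠ 0)
    (hρ : Function.Surjective ρ) (hker : RingHom.ker ρ = Ideal.span {t}) {I : X.Modules} (hI : Coh.IsCoh I)
    (hflat : FlatMod.IsFlatOver f I) {P : Z.Modules} (hP : Coh.IsCoh P)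
    (π : (Scheme.Modules.pullback i).obj I ⟶ P) [Epi π] {I' : X.Modules}
    (hI' : I' = kernel ((Scheme.Modules.pullbackPushforwardAdjunction i).unit.app I ≫
      (Scheme.Modules.pushforward i).map π)) :
    Coh.IsCoh ((Scheme.Modules.pullback i).obj I') ∧
    ∃ (α : P ⟶ (Scheme.Modules.pullback i).obj I')
      (β : (Scheme.Modules.pullback i).obj I' ⟶ (Scheme.Modules.pullback i).obj I), ∀ x,
      Function.Injective (stalkLin α x) ∧ Function.Exact (stalkLin α x) (stalkLin β x) ∧
        Function.Exact (stalkLin β x) (stalkLin π x) ∧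
        ∀ w, ∃ a, stalkLin (eqToHom hI' ≫ kernel.ι _) (i x) a = gt f (i x) t • w ∧
          stalkLin α x (stalkLin π x (pullStalk i I x w)) = pullStalk i I' x a := by
  subst hI'
  set g := (Scheme.Modules.pullbackPushforwardAdjunction i).unit.app I ≫ (Scheme.Modules.pushforward i).map π
  let j : kernel g ⟶ I := kernel.ι g
  have hI'c : Coh.IsCoh (kernel g) :=
    (QCohLib.isCoh_kernel_cokernel g hI (DevLib.isCoh_pushforward_closed i hP)).1
  haveI := hI.1
  haveI := hI'c.1
  refine ⟨PullbackMod.isCoh_pullback i _ hI'c, ?_⟩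
  have hg : ∀ x w, pushStalk i P x (stalkLin g (i x) w) = stalkLin π x (pullStalk i I x w) := fun x w => by
    rw [stalkLin_comp, LinearMap.comp_apply]
    exact (pushStalk_natural i π x _).trans (congrArg _ (unit_stalk_pushStalk i I x w))
  have hgz : ∀ x w, stalkLin g (i x) w = 0 ↔ stalkLin π x (pullStalk i I x w) = 0 := fun x w => by
    rw [← hg]
    exact ⟨fun h => by rw [h, map_zero], fun h => (bijective_pushStalk i P x).1 (h.trans (map_zero _).symm)⟩
  have hQ := fun (T : X.Modules) [Coh.IsQCoh T] (x : Z) => pullStalk_quot (i := i) hsq hρ hker T x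
  let τ := fun (T : X.Modules) => Formal.smulModΓ T (Coh.toGlobal f t)
  have hτ : τ I ≫ g = 0 := by
    refine (eq_zero_iff_stalk _).2 fun y => LinearMap.ext fun w => ?_
    rw [LinearMap.zero_apply, stalkLin_comp, LinearMap.comp_apply, BCLib.stalkLin_smulModΓ, map_smul]
    by_cases hy : y ∈ Set.range i
    · obtain ⟨x, rfl⟩ := hy
      refine (suppOn_pushforward i P).smul_eq_zero x _ ?_ _
      show i.stalkMap x (gt f (i x) t) = 0
      rw [stalkMap_gt hsq, RingHom.mem_ker.1 (hker ▸ Ideal.mem_span_singleton_self t), gt, map_zero, map_zero]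
    · exact (subsingleton_stalk_pushforward i P y hy).elim _ _
  let v : I ⟶ kernel g := kernel.lift g (τ I) hτ
  have hvj : ∀ y w, stalkLin j y (stalkLin v y w) = gt f y t • w := fun y w => by
    rw [← LinearMap.comp_apply, ← stalkLin_comp, kernel.lift_ι]
    exact BCLib.stalkLin_smulModΓ I _ y w
  have hjv : ∀ y w, stalkLin v y (stalkLin j y w) = gt f y t • w := fun y w => by
    refine (mono_iff_stalk j).1 inferInstance y ?_
    rw [hvj, map_smul]
  have hgj : ∀ y a, stalkLin g y (stalkLin j y a) = 0 := fun y a => by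
    show (stalkLin g y ∘ₗ stalkLin j y) a = 0
    rw [← stalkLin_comp, show j ≫ g = 0 from kernel.condition g, stalkLin_zero, LinearMap.zero_apply]
  let β := (Scheme.Modules.pullback i).map j
  let v' := (Scheme.Modules.pullback i).map v
  have hπv : kernel.ι π ≫ v' = 0 := by
    refine (eq_zero_iff_stalk _).2 fun x => LinearMap.ext fun z => ?_
    rw [LinearMap.zero_apply, stalkLin_comp, LinearMap.comp_apply]
    have h0 : stalkLin π x (stalkLin (kernel.ι π) x z) = 0 := by
      rw [← LinearMap.comp_apply, ← stalkLin_comp, kernel.condition, stalkLin_zero, LinearMap.zero_apply]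
    obtain ⟨w, hw⟩ := (hQ I x).1 (stalkLin (kernel.ι π) x z)
    rw [← hw] at h0 ⊢
    obtain ⟨a, rfl⟩ := exists_of_stalkLin_eq_zero g (i x) ((hgz x w).2 h0)
    rw [pullStalk_natural]
    exact ((hQ (kernel g) x).2 _).2 ⟨a, (hjv (i x) a).symm⟩
  let α : P ⟶ (Scheme.Modules.pullback i).obj (kernel g) := Abelian.epiDesc π v' hπv
  have hα : ∀ x w, stalkLin α x (stalkLin π x (pullStalk i I x w)) =
      pullStalk i (kernel g) x (stalkLin v (i x) w) := fun x w => by
    rw [← LinearMap.comp_apply, ← stalkLin_comp, Abelian.comp_epiDesc, pullStalk_natural]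
  have hsurj : ∀ x (z : P.presheaf.stalk x), ∃ w, stalkLin π x (pullStalk i I x w) = z := fun x z => by
    obtain ⟨y, rfl⟩ := (epi_iff_stalk π).1 inferInstance x z
    obtain ⟨w, rfl⟩ := (hQ I x).1 y
    exact ⟨w, rfl⟩
  refine ⟨α, β, fun x => ⟨(injective_iff_map_eq_zero _).2 fun z hz => ?_, fun z => ⟨fun hz => ?_, ?_⟩,
    fun z => ⟨fun hz => ?_, ?_⟩,
    fun w => ⟨stalkLin v (i x) w, by rw [eqToHom_refl, Category.id_comp]; exact hvj _ w, hα x w⟩⟩⟩
  · obtain ⟨w, rfl⟩ := hsurj x z
    rw [hα] at hz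
    obtain ⟨a, ha⟩ := ((hQ (kernel g) x).2 _).1 hz
    have h := congrArg (stalkLin j (i x)) ha
    rw [map_smul, hvj] at h
    have hw : stalkLin j (i x) a = w := isSMulRegular_gt ht hflat (i x) h
    rw [← (hgz x w)]
    rw [← hw]
    exact hgj _ a
  · obtain ⟨a, rfl⟩ := (hQ (kernel g) x).1 z
    rw [pullStalk_natural] at hz
    obtain ⟨w, hw⟩ := ((hQ I x).2 _).1 hz
    refine ⟨stalkLin π x (pullStalk i I x w), ?_⟩
    rw [hα]
    exact congrArg _ ((mono_iff_stalk j).1 inferInstance (i x) ((hvj _ w).trans hw))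
  · rintro ⟨y, rfl⟩
    obtain ⟨w, rfl⟩ := hsurj x y
    rw [hα, pullStalk_natural, hvj, (hQ I x).2]
    exact ⟨w, rfl⟩
  · obtain ⟨w, rfl⟩ := (hQ I x).1 z
    obtain ⟨a, rfl⟩ := exists_of_stalkLin_eq_zero g (i x) ((hgz x w).2 hz)
    exact ⟨pullStalk i (kernel g) x a, pullStalk_natural i j x a⟩
  · rintro ⟨y, rfl⟩
    obtain ⟨a, rfl⟩ := (hQ (kernel g) x).1 y
    rw [pullStalk_natural, ← hgz]
    exact hgj _ a


/-- For the kernel `I'` of `I ⟶ i_* i^* I ⟶ i_* P` the sequence `0 → P → i^* I' → i^* I → P → 0` is exact. -/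
theorem exists_modif (hsq : IsPullback i p f (Spec.map (CommRingCat.ofHom ρ))) {t : R} (ht : t ≠ 0)
    (hρ : Function.Surjective ρ) (hker : RingHom.ker ρ = Ideal.span {t}) {I : X.Modules} (hI : Coh.IsCoh I)
    (hflat : FlatMod.IsFlatOver f I) {P : Z.Modules} (hP : Coh.IsCoh P)
    (π : (Scheme.Modules.pullback i).obj I ⟶ P) [Epi π] {I' : X.Modules}
    (hI' : I' = kernel ((Scheme.Modules.pullbackPushforwardAdjunction i).unit.app I ≫
      (Scheme.Modules.pushforward i).map π)) :
    Coh.IsCoh ((Scheme.Modules.pullback i).obj I') ∧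
    ∃ (α : P ⟶ (Scheme.Modules.pullback i).obj I')
      (β : (Scheme.Modules.pullback i).obj I' ⟶ (Scheme.Modules.pullback i).obj I), ∀ x,
      Function.Injective (stalkLin α x) ∧ Function.Exact (stalkLin α x) (stalkLin β x) ∧
        Function.Exact (stalkLin β x) (stalkLin π x) := by
  obtain ⟨hc, α, β, h⟩ := exists_modif' i hsq ht hρ hker hI hflat hP π hI'
  exact ⟨hc, α, β, fun x => ⟨(h x).1, (h x).2.1, (h x).2.2.1⟩⟩

end Groth.Agent.TFOneLib
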