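import Groth.Agent.TFOneLib.Beta
import Groth.Agent.TFOneLib.Modif
import Groth.Agent.PBundleLib.Split
import Groth.Agent.DegDevLib.Det

/-!
# The special fibre of a family over a discrete valuation ring
-/

set_option autoImplicit false
set_option backward.isDefEq.respectTransparency false
set_option linter.style.haveILetI false

universe u

open CategoryTheory CategoryTheory.Limits AlgebraicGeometry TopologicalSpace Opposite

noncomputable section

namespace Groth.Agent.TFOneLib

open MeroLib (IsMaxPt)

variable {R : Type u} [CommRing R] [IsDomain R] [IsDiscreteValuationRing R] {X : Scheme.{u}}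
  {f : X ⟶ Spec (CommRingCat.of R)} {Xs : Scheme.{u}}
  [Xs.Over (Spec (CommRingCat.of (IsLocalRing.ResidueField R)))] {i : Xs ⟶ X}

/-- The properties of the special fibre and of the modification used for the numerical statements. -/
theorem setup [IsProper f]
    (hsq : IsPullback i (Xs ↘ Spec (CommRingCat.of (IsLocalRing.ResidueField R))) f
      (Spec.map (CommRingCat.ofHom (IsLocalRing.residue R))))
    (hpure : ∀ C ∈ irreducibleComponents (Xs : Type u), topologicalKrullDim C = 1)
    {I : X.Modules} (hIc : Coh.IsCoh I) (hIf : FlatMod.IsFlatOver f I) {E : X.Modules} {r : ℕ}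
    (hE : FlatMod.IsFinLocFreeOfRank r E) {Y : Set Xs} {GY : Xs.Modules}
    {πY : (Scheme.Modules.pullback i).obj I ⟶ GY} (hGY : TFOne.IsQuotOn Xs ((Scheme.Modules.pullback i).obj I) Y GY πY)
    {IY : X.Modules}
    (hIY : IY = kernel ((Scheme.Modules.pullbackPushforwardAdjunction i).unit.app I ≫
      (Scheme.Modules.pushforward i).map πY)) :
    IsProper (Xs ↘ Spec (CommRingCat.of (IsLocalRing.ResidueField R))) ∧ topologicalKrullDim Xs ≤ 1 ∧
      FlatMod.IsFinLocFreeOfRank r ((Scheme.Modules.pullback i).obj E) ∧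
      ∃ (α : GY ⟶ (Scheme.Modules.pullback i).obj IY)
        (β : (Scheme.Modules.pullback i).obj IY ⟶ (Scheme.Modules.pullback i).obj I), IsModif πY α β := by
  haveI : IsClosedImmersion (Spec.map (CommRingCat.ofHom (IsLocalRing.residue R))) :=
    IsClosedImmersion.spec_of_surjective _ IsLocalRing.residue_surjective
  haveI : IsClosedImmersion i := MorphismProperty.of_isPullback hsq.flip inferInstance
  haveI : IsLocallyNoetherian X := LocallyOfFiniteType.isLocallyNoetherian f
  haveI hp : IsProper (Xs ↘ Spec (CommRingCat.of (IsLocalRing.ResidueField R))) :=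
    MorphismProperty.of_isPullback (P := @IsProper) hsq inferInstance
  refine ⟨hp, topologicalKrullDim_le_of_components fun C hC => (hpure C hC).le,
    PBundleLib.isFinLocFreeOfRank_pullback i hE, ?_⟩
  obtain ⟨t, ht⟩ := IsDiscreteValuationRing.exists_irreducible R
  haveI := hGY.1
  obtain ⟨hc, α, β, h⟩ := exists_modif i hsq ht.ne_zero IsLocalRing.residue_surjective
    (by rw [IsLocalRing.ker_residue, ht.maximalIdeal_eq]) hIc hIf hGY.2.1 πY hIY
  exact ⟨α, β, hc, fun x => (h x).1, fun x => (h x).2.1, fun x => (h x).2.2⟩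

section beta

variable {X : Scheme.{u}} [IsReduced X] {k : Type u} [Field k] [X.Over (Spec (CommRingCat.of k))]
  [IsProper (X ↘ Spec (CommRingCat.of k))]

/-- On everything the number vanishes for a polarisation. -/
theorem rBeta_univ (hdim : topologicalKrullDim X ≤ 1) {M : X.Modules} {E : X.Modules} {r : ℕ}
    (hE : FlatMod.IsFinLocFreeOfRank r E) {d : ℤ} (hχ : Curv2.euler k X M = d)
    (hEd : Curv2.deg k X E r = -(r : ℤ) * d) :
    TFOne.rBeta X k (X ↘ Spec (CommRingCat.of k)) Set.univ isClosed_univ E r M = 0 := by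
  haveI := EulerIneqLib.isNoetherian_proper (X := X) k
  rw [rBeta_eq, degOn_univ hdim hE, hχ, hEd]
  ring

/-- The number only depends on the set and the maximal points. -/
theorem rBeta_empty (hdim : topologicalKrullDim X ≤ 1) {M : X.Modules} (hM : TFOne.IsTF1 X M) {E : X.Modules} {r : ℕ}
    (hE : FlatMod.IsFinLocFreeOfRank r E) {W : Set X} (hWc : IsClosed W) (hW : ∀ η, IsMaxPt η → η ∉ W)
    {G : X.Modules} {p : M ⟶ G} (hG : TFOne.IsQuotOn X M W G p) :
    TFOne.rBeta X k (X ↘ Spec (CommRingCat.of k)) W hWc E r G = 0 := by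
  classical
  haveI := EulerIneqLib.isNoetherian_proper (X := X) k
  haveI := hG.2.1.1
  haveI := hG.1
  have hp : p = 0 := hom_eq_zero hG.2.2.1 p fun η hη => LinearMap.ext fun z => by
    rw [LinearMap.zero_apply]
    exact stalk_zero_of_notMem hG (hW η hη) _
  have hz : IsZero G := (IsZero.iff_id_eq_zero G).2 (by
    rw [← cancel_epi p, hp, zero_comp, comp_zero])
  rw [rBeta_eq, degOn_eq k hdim hE hWc, DegDevLib.euler_isZero k hz]
  simp only [mul_zero, zero_add]
  refine finsum_eq_zero_of_forall_eq_zero fun Z => ?_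
  rw [Set.indicator_of_notMem, zero_mul]
  refine hW _ ((isMaxPt_iff_genericPoints _).2 ?_)
  show closure {Z.2.1.genericPoint} ∈ irreducibleComponents (X : Type u)
  rw [Z.2.1.closure_genericPoint (isClosed_of_mem_irreducibleComponents _ Z.2)]
  exact Z.2

end beta

end Groth.Agent.TFOneLib
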