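import Groth.Agent.TFOneLib.Setup
import Groth.Agent.TFOneLib.Ext
import Groth.Agent.IntLib.Push

/-!
# Torsion-free modules on a closed subcurve and on the ambient curve
-/

set_option autoImplicit false
set_option backward.isDefEq.respectTransparency false
set_option linter.style.haveILetI false

universe u

open CategoryTheory CategoryTheory.Limits AlgebraicGeometry TopologicalSpace Opposite

noncomputable section

namespace Groth.Agent.TFOneLib

open MeroLib (IsMaxPt)
open PullbackMod DCohLib

variable {X : Scheme.{u}} [IsReduced X]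

/-- If sections are detected at the maximal points the module is torsion-free. -/
theorem torsionFree_of_sep [IsNoetherian X] {N : X.Modules}
    (hsep : ∀ (W : X.Opens) (s : Γ(N, W)), (∀ η (hη : η ∈ W), IsMaxPt η → N.presheaf.germ W η hη s = 0) → s = 0) :
    TorSh.IsTorsionFree N := fun x => by
  refine ⟨fun r hr => (injective_iff_map_eq_zero (DistribSMul.toAddMonoidHom _ r)).2 fun e hz => ?_⟩
  change r • e = 0 at hz
  let S' : Set X := {η | η ∈ genericPoints X ∧ ¬ η ⤳ x}
  have hS' : S'.Finite := ((genericPoints.finite (α := X)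
    NoetherianSpace.finite_irreducibleComponents)).subset fun η h => h.1
  obtain ⟨U₀, hU₀, a, rfl⟩ := TopCat.Presheaf.exists_germ_eq X.presheaf r
  obtain ⟨U₁, hU₁, s₁, rfl⟩ := TopCat.Presheaf.exists_germ_eq N.presheaf e
  let O : X.Opens := ⟨(⋃ η ∈ S', closure ({η} : Set X))ᶜ,
    (hS'.isClosed_biUnion fun _ _ => isClosed_closure).isOpen_compl⟩
  have hxO : x ∈ O := fun h => by
    obtain ⟨η, hη, hcl⟩ := Set.mem_iUnion₂.1 h
    exact hη.2 (specializes_iff_mem_closure.2 hcl)
  obtain ⟨W, hW, hxW, hWsub⟩ := exists_isAffineOpen_mem_and_subset (X := X) (x := x) (U := U₀ ⊓ U₁ ⊓ O)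
    ⟨⟨hU₀, hU₁⟩, hxO⟩
  have hW₀ : W ≤ U₀ := fun y hy => (hWsub hy).1.1
  have hW₁ : W ≤ U₁ := fun y hy => (hWsub hy).1.2
  let a' : Γ(X, W) := X.presheaf.map (homOfLE hW₀).op a
  let s' : Γ(N, W) := N.presheaf.map (homOfLE hW₁).op s₁
  have ha : X.presheaf.germ W x hxW a' = X.presheaf.germ U₀ x hU₀ a :=
    TopCat.Presheaf.germ_res_apply X.presheaf (homOfLE hW₀) x hxW a
  have hs : N.presheaf.germ W x hxW s' = N.presheaf.germ U₁ x hU₁ s₁ :=
    TopCat.Presheaf.germ_res_apply N.presheaf (homOfLE hW₁) x hxW s₁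
  have hnd : X.presheaf.germ W x hxW a' ∈ nonZeroDivisors (X.presheaf.stalk x) := by
    rw [ha]; exact isRegular_iff_mem_nonZeroDivisors.1 hr
  have hz' : N.presheaf.germ W x hxW (a' • s') = N.presheaf.germ W x hxW 0 := by
    rw [TorRankLib.germ_smul', ha, hs, map_zero]; exact hz
  obtain ⟨W₂, hxW₂, i₁, i₂, h⟩ := N.presheaf.germ_eq x hxW hxW _ _ hz'
  rw [map_zero] at h
  rw [← hs, ← TopCat.Presheaf.germ_res_apply N.presheaf i₁ x hxW₂ s']
  refine (congrArg (N.presheaf.germ W₂ x hxW₂) (hsep W₂ _ fun η hη hmax => ?_)).trans (map_zero _)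
  have hηW : η ∈ W := i₁.le hη
  have hu := isUnit_germ_of_regular hW hxW hηW hmax (by
    by_contra hns
    exact (hWsub hηW).2 (Set.mem_biUnion (x := η) ⟨(isMaxPt_iff_genericPoints η).1 hmax, hns⟩ (subset_closure rfl))) hnd
  rw [TopCat.Presheaf.germ_res_apply N.presheaf i₁ η hη s']
  refine hu.smul_eq_zero.1 ?_
  rw [← TorRankLib.germ_smul', ← TopCat.Presheaf.germ_res_apply N.presheaf i₁ η hη (a' • s')]
  exact (congrArg (N.presheaf.germ W₂ η hη) h).trans (map_zero _)

variable {Z : Scheme.{u}} (g : Z ⟶ X) [IsClosedImmersion g]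
  (hg : ∀ x, x ∈ Set.range g → ∃ η, IsMaxPt η ∧ η ∈ Set.range g ∧ η ⤳ x)

omit [IsReduced X] in
theorem isMaxPt_of_range {η : Z} (h : IsMaxPt (g η)) : IsMaxPt η := fun z hz =>
  g.isClosedEmbedding.injective (h _ (hz.map g.continuous))

omit [IsReduced X] in
include hg in
theorem isMaxPt_image {η : Z} (hη : IsMaxPt η) : IsMaxPt (g η) := by
  obtain ⟨ξ, hξ, ⟨z, rfl⟩, hs⟩ := hg _ ⟨η, rfl⟩
  obtain rfl : z = η := hη z ((g.isClosedEmbedding.isInducing.specializes_iff).1 hs)
  exact hξ

include hg in
/-- The direct image of a torsion-free module from a union of components is torsion-free. -/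
theorem torsionFree_push [IsNoetherian X] [IsReduced Z] [IsLocallyNoetherian Z] {G : Z.Modules} [Coh.IsQCoh G]
    (htG : TorSh.IsTorsionFree G) : TorSh.IsTorsionFree ((Scheme.Modules.pushforward g).obj G) := by
  refine torsionFree_of_sep fun W s hs => ?_
  refine eq_zero_of_maxPt (U := g ⁻¹ᵁ W) htG s fun η hη hmax => ?_
  rw [← pushStalk_germ g G η hη s, hs (g η) hη (isMaxPt_image g hg hmax), map_zero]

include hg in
/-- A torsion-free module coming from the subscheme is torsion-free there. -/
theorem torsionFree_pullback [IsReduced Z] [IsNoetherian Z] [IsLocallyNoetherian X] {P : X.Modules} [Coh.IsQCoh P]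
    (htP : TorSh.IsTorsionFree P) [IsIso ((Scheme.Modules.pullbackPushforwardAdjunction g).unit.app P)] :
    TorSh.IsTorsionFree ((Scheme.Modules.pullback g).obj P) := by
  refine torsionFree_of_sep fun V s hs => ?_
  obtain ⟨W, hW, hWV⟩ : ∃ W : Set X, IsOpen W ∧ g ⁻¹' W = V :=
    g.isClosedEmbedding.isInducing.isOpen_iff.1 V.2
  obtain rfl : V = g ⁻¹ᵁ (⟨W, hW⟩ : X.Opens) := Opens.ext hWV.symm
  let W' : X.Opens := ⟨W, hW⟩
  let u := (Scheme.Modules.pullbackPushforwardAdjunction g).unit.app P
  let σ : Γ(P, W') := (inv u).app W' s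
  have hus : u.app W' σ = s := by
    show ((inv u) ≫ u).app W' s = s
    rw [IsIso.inv_hom_id]
    rfl
  suffices h : σ = 0 by rw [← hus, h, map_zero]
  refine eq_zero_of_maxPt htP σ fun y hy hmax => ?_
  by_cases hr : y ∈ Set.range g
  · obtain ⟨η, rfl⟩ := hr
    refine ((isIso_iff_stalk u).1 inferInstance (g η)).1 ((bijective_pushStalk g _ η).1 ?_)
    rw [map_zero, map_zero]
    refine (congrArg _ ((stalkLin_germ u (g η) (U := W') hy σ).trans (congrArg _ hus))).trans ?_
    exact (pushStalk_germ g _ η hy s).trans (hs η hy (isMaxPt_of_range g hmax))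
  · refine ((isIso_iff_stalk u).1 inferInstance y).1 ?_
    exact (subsingleton_stalk_pushforward g _ y hr).elim _ _

omit [IsReduced X] in
/-- A module torsion-free on the reduced scheme with support in the image lives on the subscheme. -/
theorem suppOn_of_maxPt [IsReduced X] [IsLocallyNoetherian X] {P : X.Modules} [Coh.IsQCoh P] (htP : TorSh.IsTorsionFree P)
    (hP : CohB1.support P ⊆ Set.range g) : SuppOn g P where
  subsingleton y hy := (subsingleton_stalk_iff P y).2 fun h => hy (hP h)
  smul_eq_zero x a ha z := by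
    obtain ⟨U₀, hU₀, a, rfl⟩ := TopCat.Presheaf.exists_germ_eq X.presheaf a
    obtain ⟨U₁, hU₁, z, rfl⟩ := TopCat.Presheaf.exists_germ_eq P.presheaf z
    rw [Scheme.Hom.germ_stalkMap_apply] at ha
    obtain ⟨V, hxV, i₁, i₂, h⟩ := Z.presheaf.germ_eq (U := g ⁻¹ᵁ U₀) (V := g ⁻¹ᵁ U₀) x hU₀ hU₀ _ 0
      (ha.trans (map_zero _).symm)
    rw [map_zero] at h
    obtain ⟨W, hWo, hWV⟩ : ∃ W : Set X, IsOpen W ∧ g ⁻¹' W = V :=
      g.isClosedEmbedding.isInducing.isOpen_iff.1 V.2
    let W' : X.Opens := U₀ ⊓ U₁ ⊓ ⟨W, hWo⟩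
    have hxW : g x ∈ W' := ⟨⟨hU₀, hU₁⟩, show x ∈ g ⁻¹' W by rw [hWV]; exact hxV⟩
    let a' : Γ(X, W') := X.presheaf.map (homOfLE (inf_le_left.trans inf_le_left : W' ≤ U₀)).op a
    let z' : Γ(P, W') := P.presheaf.map (homOfLE (inf_le_left.trans inf_le_right : W' ≤ U₁)).op z
    suffices h0 : a' • z' = 0 by
      rw [← TopCat.Presheaf.germ_res_apply X.presheaf (homOfLE (inf_le_left.trans inf_le_left : W' ≤ U₀)) (g x) hxW a,
        ← TopCat.Presheaf.germ_res_apply P.presheaf (homOfLE (inf_le_left.trans inf_le_right : W' ≤ U₁)) (g x) hxW z]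
      erw [← TorRankLib.germ_smul']
      rw [h0, map_zero]
    refine eq_zero_of_maxPt htP _ fun y hy hmax => ?_
    by_cases hr : y ∈ CohB1.support P
    · obtain ⟨η, rfl⟩ := hP hr
      letI := (MeroLib.isField_stalk hmax).toField
      have h0 : g.stalkMap η (X.presheaf.germ W' (g η) hy a') = 0 := by
        have hηV : η ∈ V := by
          show η ∈ (V : Set Z)
          rw [← hWV]
          exact hy.2
        rw [TopCat.Presheaf.germ_res_apply X.presheaf (homOfLE (inf_le_left.trans inf_le_left : W' ≤ U₀)) (g η) hy a,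
          Scheme.Hom.germ_stalkMap_apply, ← TopCat.Presheaf.germ_res_apply Z.presheaf i₁ η hηV]
        exact (congrArg (Z.presheaf.germ V η hηV) h).trans (map_zero _)
      rw [TorRankLib.germ_smul']
      have ha0 : X.presheaf.germ W' (g η) hy a' = 0 := by
        by_contra hne
        exact not_isUnit_zero (h0 ▸ (Ne.isUnit hne).map (g.stalkMap η).hom)
      rw [ha0, zero_smul]
    · haveI := (subsingleton_stalk_iff P y).2 hr
      exact Subsingleton.elim _ _

/-- At a maximal point of the image a module of rank one has rank one on the subscheme. -/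
theorem isRkOne_pullback [IsReduced Z] {M P : X.Modules} {π : M ⟶ P} (hM : TFOne.IsRkOne X M)
    [Coh.IsQCoh P] (hS : SuppOn g P) (hπ : ∀ η, IsMaxPt η → η ∈ Set.range g → Function.Bijective (stalkLin π η))
    (hg : ∀ x, x ∈ Set.range g → ∃ η, IsMaxPt η ∧ η ∈ Set.range g ∧ η ⤳ x) :
    TFOne.IsRkOne Z ((Scheme.Modules.pullback g).obj P) := by
  intro η hη
  have hmax := isMaxPt_image g hg ((isMaxPt_iff_genericPoints η).2 hη)
  obtain ⟨φ⟩ := hM (g η) ((isMaxPt_iff_genericPoints (g η)).1 hmax)
  have hb := hπ (g η) hmax ⟨η, rfl⟩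
  let e : M.presheaf.stalk (g η) := φ.symm 1
  let w := pullStalk g P η (stalkLin π (g η) e)
  have hP := bijective_pullStalk g hS η
  refine ⟨(LinearEquiv.ofBijective (LinearMap.toSpanSingleton (Z.presheaf.stalk η) _ w) ⟨?_, fun z => ?_⟩).symm⟩
  · refine (injective_iff_map_eq_zero _).2 fun b hb0 => ?_
    obtain ⟨a, rfl⟩ := g.stalkMap_surjective η b
    rw [LinearMap.toSpanSingleton_apply] at hb0
    have h1 : pullStalk g P η (stalkLin π (g η) (a • e)) = 0 := by
      rw [map_smul, pullStalk_smul]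
      exact hb0
    have h2 : a • e = 0 := hb.1 ((hP.1 (h1.trans (map_zero _).symm)).trans (map_zero _).symm)
    have h3 := congrArg φ h2
    rw [map_smul, LinearEquiv.apply_symm_apply, smul_eq_mul, mul_one, map_zero] at h3
    rw [h3, map_zero]
  · obtain ⟨y, rfl⟩ := hP.2 z
    obtain ⟨m, rfl⟩ := hb.2 y
    refine ⟨g.stalkMap η (φ m), ?_⟩
    rw [LinearMap.toSpanSingleton_apply]
    refine (pullStalk_smul g P η (φ m) _).symm.trans ?_
    rw [← map_smul, ← map_smul, smul_eq_mul, mul_one, LinearEquiv.symm_apply_apply]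

/-- At a maximal point the structure sheaf of a closed subscheme has length one or zero. -/
theorem length_stalk_push {η : X} (hη : IsMaxPt η) :
    ((Module.length (X.presheaf.stalk η)
      (((Scheme.Modules.pushforward g).obj (Coh.structureModule Z)).presheaf.stalk η)).toNat : ℤ) =
      (Set.range g).indicator (fun _ => (1 : ℤ)) η := by
  classical
  by_cases h : η ∈ Set.range g
  · rw [Set.indicator_of_mem h]
    obtain ⟨x, rfl⟩ := h
    letI := (MeroLib.isField_stalk hη).toField
    let O := Coh.structureModule Z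
    obtain ⟨z, hz⟩ := (bijective_pushStalk g O x).2 (ParaFLib.oneG x)
    have hbij : Function.Bijective (LinearMap.toSpanSingleton (X.presheaf.stalk (g x)) _ z) := by
      refine ⟨(injective_iff_map_eq_zero _).2 fun a ha => ?_, fun y => ?_⟩
      · by_contra hne
        have hz0 : z = 0 := (smul_eq_zero.1 ha).resolve_left hne
        rw [hz0, map_zero] at hz
        refine one_ne_zero (α := Z.presheaf.stalk x) ((ParaFLib.bijective_oneG x).1 ?_)
        show (1 : Z.presheaf.stalk x) • ParaFLib.oneG x = (0 : Z.presheaf.stalk x) • ParaFLib.oneG x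
        rw [zero_smul, one_smul, ← hz]
      · obtain ⟨b, hb⟩ := (ParaFLib.bijective_oneG x).2 (pushStalk g O x y)
        obtain ⟨a, rfl⟩ := g.stalkMap_surjective x b
        refine ⟨a, (bijective_pushStalk g O x).1 ?_⟩
        rw [LinearMap.toSpanSingleton_apply, pushStalk_smul, hz]
        exact hb
    rw [← (LinearEquiv.ofBijective _ hbij).length_eq, Module.length_eq_one]
    simp
  · rw [Set.indicator_of_notMem h]
    haveI := subsingleton_stalk_pushforward g (Coh.structureModule Z) η h
    rw [Module.length_eq_zero]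
    simp

/-- The degree on a closed subscheme whose image is a union of components is the degree on its image. -/
theorem deg_eq_degOn (k : Type u) [Field k] [X.Over (Spec (CommRingCat.of k))]
    [IsProper (X ↘ Spec (CommRingCat.of k))] (hdim : topologicalKrullDim X ≤ 1) {r : ℕ} {E : X.Modules}
    (hE : FlatMod.IsFinLocFreeOfRank r E) (hT : IsClosed (Set.range g)) :
    @Curv2.deg k _ Z ⟨g ≫ (X ↘ Spec (CommRingCat.of k))⟩ ((Scheme.Modules.pullback g).obj E) r =
      degOn k E r (Set.range g) hT := by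
  haveI := EulerIneqLib.isNoetherian_proper (X := X) k
  letI : Z.Over (Spec (CommRingCat.of k)) := ⟨g ≫ (X ↘ Spec (CommRingCat.of k))⟩
  haveI : IsProper (Z ↘ Spec (CommRingCat.of k)) := inferInstanceAs (IsProper (g ≫ (X ↘ Spec (CommRingCat.of k))))
  haveI : Coh.IsQCoh E := (DegDevLib.isCoh_of_rank hE).1
  haveI : Coh.IsQCoh ((Scheme.Modules.pullback g).obj E) := PullbackMod.isQCoh_pullback _ E
  haveI : Coh.IsQCoh (tmod (Coh.structureModule Z) ((Scheme.Modules.pullback g).obj E)) :=
    BCLib.isQCoh_tmod _ _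
  have h1 : DegDevLib.twEuler k r E ((Scheme.Modules.pushforward g).obj (Coh.structureModule Z)) =
      Curv2.deg k Z ((Scheme.Modules.pullback g).obj E) r := by
    rw [DegDevLib.twEuler, Curv2.deg]
    refine congrArg₂ (fun a b : ℤ => a - (r : ℤ) * b) ?_ (IntLib.euler_push k g rfl _)
    exact (CurveLib.euler_iso (K := k) (projIso g _ E)).trans
      ((IntLib.euler_push k g rfl _).trans (CurveLib.euler_iso (K := k) (CurveLib.tmodUnit _)))
  rw [← h1, DegDevLib.twEuler_components k hdim hE (DevLib.isCoh_pushforward_closed g (DevLib.isCoh_structureModule Z)),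
    degOn_eq k hdim hE hT]
  refine finsum_congr fun C => ?_
  have hη : IsMaxPt C.2.1.genericPoint := by
    rw [MeroLib.isMaxPt_iff]
    show closure {C.2.1.genericPoint} ∈ irreducibleComponents (X : Type u)
    rw [C.2.1.closure_genericPoint (isClosed_of_mem_irreducibleComponents _ C.2)]
    exact C.2
  split_ifs
  · rw [length_stalk_push g hη]
  · rw [mul_zero]

end Groth.Agent.TFOneLib
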