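import Groth.Agent.TFOneLib.Tower
import Groth.Agent.S0004
import Groth.Prelude.Def_Formal
import Groth.Agent.PullbackMod.SuppClosed
import Groth.Agent.PullbackMod.OpenLocus
import Mathlib.RingTheory.Filtration
import Mathlib.RingTheory.Finiteness.Basic

/-!
# Algebraisation of the quotients of a decomposing tower
-/

set_option autoImplicit false
set_option backward.isDefEq.respectTransparency false
set_option linter.style.haveILetI false

universe u

open CategoryTheory CategoryTheory.Limits AlgebraicGeometry TopologicalSpace Opposite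

noncomputable section

namespace Groth.Agent.TFOneLib

open MeroLib (IsMaxPt)
open PullbackMod DCohLib

/-- A kernel element on stalks lifts through a cokernel sequence. -/
theorem exists_of_cokernel_π_eq_zero {X : Scheme.{u}} {M N : X.Modules} (φ : M ⟶ N) (x : X)
    {z : N.presheaf.stalk x} (hz : stalkLin (cokernel.π φ) x z = 0) : ∃ v, stalkLin φ x v = z :=
  (SyzLib.exact_stalkLin' (ShortComplex.mk _ _ (cokernel.condition φ))
    (ShortComplex.exact_of_g_is_cokernel _ (cokernelIsCokernel φ)) x z).1 hz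

/-- Two quotients with the same kernel are isomorphic. -/
theorem exists_iso_of_epi {X : Scheme.{u}} {A B C : X.Modules} (a : A ⟶ B) (b : A ⟶ C) [Epi a] [Epi b]
    (h : ∀ x z, stalkLin a x z = 0 ↔ stalkLin b x z = 0) : ∃ e : B ≅ C, a ≫ e.hom = b := by
  have ha : kernel.ι a ≫ b = 0 := (eq_zero_iff_stalk _).2 fun x => LinearMap.ext fun z => by
    rw [stalkLin_comp, LinearMap.comp_apply, LinearMap.zero_apply]
    exact (h x _).1 (stalkLin_apply_zero (kernel.condition a) x z)
  have hb : kernel.ι b ≫ a = 0 := (eq_zero_iff_stalk _).2 fun x => LinearMap.ext fun z => by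
    rw [stalkLin_comp, LinearMap.comp_apply, LinearMap.zero_apply]
    exact (h x _).2 (stalkLin_apply_zero (kernel.condition b) x z)
  refine ⟨⟨Abelian.epiDesc a b ha, Abelian.epiDesc b a hb, ?_, ?_⟩, Abelian.comp_epiDesc _ _ _⟩
  · rw [← cancel_epi a, Abelian.comp_epiDesc_assoc, Abelian.comp_epiDesc, Category.comp_id]
  · rw [← cancel_epi b, Abelian.comp_epiDesc_assoc, Abelian.comp_epiDesc, Category.comp_id]

variable {R : Type u} [CommRing R] [IsDomain R] [IsDiscreteValuationRing R] {X : Scheme.{u}}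
  {f : X ⟶ Spec (CommRingCat.of R)} {Xs : Scheme.{u}}
  [Xs.Over (Spec (CommRingCat.of (IsLocalRing.ResidueField R)))] {i : Xs ⟶ X}

variable [IsReduced Xs] [IsLocallyNoetherian X] [IsLocallyNoetherian Xs] [IsClosedImmersion i]

variable (hsq : IsPullback i (Xs ↘ Spec (CommRingCat.of (IsLocalRing.ResidueField R))) f
    (Spec.map (CommRingCat.ofHom (IsLocalRing.residue R)))) {t : R} (ht : Irreducible t)
  (In : ℕ → X.Modules) {Y Y' : Set Xs} (G G' : ℕ → Xs.Modules)
  (π : ∀ n, (Scheme.Modules.pullback i).obj (In n) ⟶ G n)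
  (π' : ∀ n, (Scheme.Modules.pullback i).obj (In n) ⟶ G' n)
  (hstep : ∀ n, In (n + 1) = kernel ((Scheme.Modules.pullbackPushforwardAdjunction i).unit.app (In n) ≫
    (Scheme.Modules.pushforward i).map (π n)))
  (hIc : Coh.IsCoh (In 0)) (hIf : FlatMod.IsFlatOver f (In 0))
  (hIs : TFOne.IsTF1 Xs ((Scheme.Modules.pullback i).obj (In 0)))
  (hG : ∀ n, TFOne.IsQuotOn Xs ((Scheme.Modules.pullback i).obj (In n)) Y (G n) (π n))
  (hG' : ∀ n, TFOne.IsQuotOn Xs ((Scheme.Modules.pullback i).obj (In n)) Y' (G' n) (π' n))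
  (hY' : ∀ η : Xs, IsMaxPt η → (η ∈ Y' ↔ η ∉ Y))
  (hdec : ∀ n, IsIso (biprod.lift (π n) (π' n)))

include hsq ht hIc hIf hIs hG hG' hY' hdec in
/-- Powers of the uniformiser push the start into the tower. -/
theorem pow_smul_mem_Lat (y : X) (z : (In 0).presheaf.stalk y) : ∀ n, gt f y t ^ n • z ∈ Lat In G π hstep n y
  | 0 => ⟨gt f y t ^ 0 • z, by rw [inclZero, stalkLin_id, LinearMap.id_apply]⟩
  | n + 1 => by
    rw [pow_succ', mul_smul]
    exact (Lat_props hsq ht In G G' π π' hstep hIc hIf hIs hG hG' hY' hdec n y).1 _ (pow_smul_mem_Lat y z n)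

omit [IsReduced Xs] [IsLocallyNoetherian Xs] [IsLocallyNoetherian X] [IsClosedImmersion i] in
theorem Lat_antitone (y : X) {m n : ℕ} (h : m ≤ n) : Lat In G π hstep n y ≤ Lat In G π hstep m y := by
  induction h with
  | refl => exact le_rfl
  | step _ ih => exact (Lat_succ_le In G π hstep _ y).trans ih

include hsq ht hIc hIf hIs hG hG' hY' hdec in
/-- Each lattice is the corresponding power of the uniformiser modulo the next one. -/
theorem exists_sub_mem_Lat (y : X) : ∀ (m : ℕ), ∀ z ∈ Lat In G π hstep m y,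
    ∃ w : (In 0).presheaf.stalk y, z - gt f y t ^ m • w ∈ Lat In G π hstep (m + 1) y
  | 0, z, _ => ⟨z, by rw [pow_zero, one_smul, sub_self]; exact zero_mem _⟩
  | m + 1, z, hz => by
    obtain ⟨h1, -, -⟩ := Lat_props hsq ht In G G' π π' hstep hIc hIf hIs hG hG' hY' hdec (m + 1) y
    obtain ⟨w, hw, hzw⟩ :=
      (Lat_props hsq ht In G G' π π' hstep hIc hIf hIs hG hG' hY' hdec m y).2.2 z hz
    obtain ⟨w₀, hw₀⟩ := exists_sub_mem_Lat y m w hw
    refine ⟨w₀, ?_⟩
    have := add_mem hzw (h1 _ hw₀)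
    rwa [smul_sub, ← mul_smul, ← pow_succ', sub_add_sub_cancel] at this

include hsq ht hIc hIf hIs hG hG' hY' hdec in
/-- The uniformiser is injective modulo the tower. -/
theorem mem_Lat_of_smul_mem (y : X) (n : ℕ) (z : (In 0).presheaf.stalk y)
    (h : gt f y t • z ∈ Lat In G π hstep (n + 1) y) : z ∈ Lat In G π hstep n y := by
  suffices ∀ j ≤ n, z ∈ Lat In G π hstep j y from this n le_rfl
  intro j
  induction j with
  | zero => exact fun _ => ⟨z, by rw [inclZero, stalkLin_id, LinearMap.id_apply]⟩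
  | succ j ih =>
    intro hj
    exact (Lat_props hsq ht In G G' π π' hstep hIc hIf hIs hG hG' hY' hdec j y).2.1 z (ih (by omega))
      (Lat_antitone In G π hstep y (by omega : j + 2 ≤ n + 1) h)

/-- The `n`-th quotient of the start. -/
def towerQuot (n : ℕ) : X.Modules := cokernel (inclZero In G π hstep (n + 1))

/-- The projection onto the `n`-th quotient. -/
def towerπ (n : ℕ) : In 0 ⟶ towerQuot In G π hstep n := cokernel.π _

instance epi_towerπ (n : ℕ) : Epi (towerπ In G π hstep n) := inferInstanceAs (Epi (cokernel.π _))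

omit [IsReduced Xs] [IsLocallyNoetherian Xs] [IsLocallyNoetherian X] [IsClosedImmersion i] in
theorem towerπ_eq_zero_iff (n : ℕ) (y : X) (z : (In 0).presheaf.stalk y) :
    stalkLin (towerπ In G π hstep n) y z = 0 ↔ z ∈ Lat In G π hstep (n + 1) y :=
  ⟨fun h => exists_of_cokernel_π_eq_zero _ y h, fun ⟨a, ha⟩ => ha ▸ stalkLin_apply_zero (cokernel.condition _) y a⟩

/-- The transition map of the quotients. -/
def towerTrans (n : ℕ) : towerQuot In G π hstep (n + 1) ⟶ towerQuot In G π hstep n :=
  cokernel.desc _ (towerπ In G π hstep n) (by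
    show (incl In G π hstep (n + 1) ≫ inclZero In G π hstep (n + 1)) ≫ _ = 0
    rw [Category.assoc, towerπ, cokernel.condition, comp_zero])

omit [IsReduced Xs] [IsLocallyNoetherian Xs] [IsLocallyNoetherian X] [IsClosedImmersion i] in
theorem towerπ_trans (n : ℕ) :
    towerπ In G π hstep (n + 1) ≫ towerTrans In G π hstep n = towerπ In G π hstep n :=
  cokernel.π_desc _ _ _

include hsq ht hstep hIc hIf hIs hG hG' hY' hdec in
/-- A decomposing tower over a complete valuation ring comes from a flat quotient. -/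
theorem exists_flat_quotient [IsAdicComplete (IsLocalRing.maximalIdeal R) R] [IsProper f] :
    ∃ (F : X.Modules) (p : In 0 ⟶ F), Epi p ∧ Coh.IsCoh F ∧ FlatMod.IsFlatOver f F ∧
      ∃ e : (Scheme.Modules.pullback i).obj F ≅ G 0, (Scheme.Modules.pullback i).map p ≫ e.hom = π 0 := by
  letI : X.Over (Spec (CommRingCat.of R)) := ⟨f⟩
  haveI : IsProper (X ↘ Spec (CommRingCat.of R)) := ‹IsProper f›
  set I := IsLocalRing.maximalIdeal R with hI
  have htI : t ∈ I := hI ▸ ht.maximalIdeal_eq.symm ▸ Ideal.mem_span_singleton_self t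
  have hsm : ∀ (N : X.Modules) (a : R) (y : X) (z : N.presheaf.stalk y),
      stalkLin (Formal.smulMod R N a) y z = gt f y a • z := fun N a y z => BCLib.stalkLin_smulModΓ N _ y z
  have hgt : ∀ y n, gt f y (t ^ n) = gt f y t ^ n := fun y n => by
    show X.presheaf.germ ⊤ y trivial (Coh.toGlobal f _) = _
    rw [map_pow, map_pow]
  have hpow : ∀ {a : R} {n : ℕ}, a ∈ I ^ n → ∃ b, a = b * t ^ n := fun {a n} ha => by
    rw [hI, ht.maximalIdeal_eq, Ideal.span_singleton_pow, Ideal.mem_span_singleton'] at ha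
    obtain ⟨b, hb⟩ := ha
    exact ⟨b, hb.symm⟩
  have hgtmul : ∀ y a b, gt f y (a * b) = gt f y a * gt f y b := fun y a b => by
    show X.presheaf.germ ⊤ y trivial (Coh.toGlobal f _) = _
    rw [map_mul, map_mul]
  let tπ := towerπ In G π hstep
  have htπ := towerπ_eq_zero_iff In G π hstep
  -- the terms are killed
  have hkill : ∀ n (y : X) (a : R), a ∈ I ^ (n + 1) → ∀ z : (In 0).presheaf.stalk y,
      gt f y a • stalkLin (tπ n) y z = 0 := fun n y a ha z => by
    obtain ⟨b, rfl⟩ := hpow ha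
    rw [hgtmul, hgt, mul_smul, ← map_smul,
      (htπ n y _).2 (pow_smul_mem_Lat hsq ht In G G' π π' hstep hIc hIf hIs hG hG' hY' hdec y z (n + 1)),
      smul_zero]
  let GG : ℕᵒᵖ ⥤ X.Modules :=
    Functor.ofOpSequence (X := towerQuot In G π hstep) (towerTrans In G π hstep)
  have hGG : Formal.IsCohFormal I GG := by
    refine ⟨fun n => ?_, fun n a ha => ?_, fun n => ?_⟩
    · exact (QCohLib.isCoh_kernel_cokernel _ (isCoh_In In G π hstep hIc hG (n + 1)) hIc).2
    · refine (eq_zero_iff_stalk _).2 fun y => LinearMap.ext fun z => ?_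
      obtain ⟨w, rfl⟩ := (epi_iff_stalk (tπ n)).1 inferInstance y z
      rw [LinearMap.zero_apply, hsm]
      exact hkill n y a ha w
    · have hm : GG.map (homOfLE (Nat.le_succ n)).op = towerTrans In G π hstep n :=
        Functor.ofOpSequence_map_homOfLE_succ _ n
      have htr : ∀ y w, stalkLin (towerTrans In G π hstep n) y (stalkLin (tπ (n + 1)) y w) =
          stalkLin (tπ n) y w := fun y w => stalkLin_eq_of_comp (towerπ_trans In G π hstep n) y w
      have hh : Formal.smulFamily (I ^ (n + 1)) (GG.obj (op (n + 1))) ≫ GG.map (homOfLE (Nat.le_succ n)).op = 0 := by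
        refine Limits.Sigma.hom_ext _ _ fun a => ?_
        rw [comp_zero, Formal.smulFamily, Limits.Sigma.ι_desc_assoc, hm]
        refine (eq_zero_iff_stalk _).2 fun y => LinearMap.ext fun z => ?_
        obtain ⟨w, rfl⟩ := (epi_iff_stalk (tπ (n + 1))).1 inferInstance y z
        rw [LinearMap.zero_apply, stalkLin_comp, LinearMap.comp_apply, hsm]
        refine ((stalkLin (towerTrans In G π hstep n) y).map_smul _ _).trans ?_
        rw [htr]
        exact hkill n y a.1 a.2 w
      refine ⟨hh, (isIso_iff_stalk _).2 fun y => ?_⟩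
      have hq := fun z => stalkLin_eq_of_comp (cokernel.π_desc
        (Formal.smulFamily (I ^ (n + 1)) (GG.obj (op (n + 1)))) (GG.map (homOfLE (Nat.le_succ n)).op)
        hh) y z
      refine ⟨(injective_iff_map_eq_zero _).2 fun q hq0 => ?_, fun q => ?_⟩
      · obtain ⟨z, rfl⟩ := (epi_iff_stalk (cokernel.π _)).1 inferInstance y q
        rw [hq, hm] at hq0
        obtain ⟨w, rfl⟩ := (epi_iff_stalk (tπ (n + 1))).1 inferInstance y z
        have hw := (htπ n y w).1 ((htr y w).symm.trans hq0)
        obtain ⟨w₀, hw₀⟩ :=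
          exists_sub_mem_Lat hsq ht In G G' π π' hstep hIc hIf hIs hG hG' hY' hdec y (n + 1) w hw
        have h2 : stalkLin (tπ (n + 1)) y w = gt f y (t ^ (n + 1)) • stalkLin (tπ (n + 1)) y w₀ := by
          rw [hgt, ← map_smul, ← sub_eq_zero, ← map_sub]
          exact (htπ (n + 1) y _).2 hw₀
        have h3 := stalkLin_apply_zero (cokernel.condition
          (Formal.smulFamily (I ^ (n + 1)) (GG.obj (op (n + 1))))) y (stalkLin (Limits.Sigma.ι
            (fun _ : (I ^ (n + 1) : Ideal R) => GG.obj (op (n + 1))) ⟨_, Ideal.pow_mem_pow htI _⟩) y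
            (stalkLin (tπ (n + 1)) y w₀))
        have h4 := stalkLin_eq_of_comp (Limits.Sigma.ι_desc
            (fun a : (I ^ (n + 1) : Ideal R) => Formal.smulMod R (GG.obj (op (n + 1))) (a : R))
            ⟨_, Ideal.pow_mem_pow htI _⟩) y (stalkLin (tπ (n + 1)) y w₀)
        rw [h2, ← hsm]
        exact (congrArg _ h4).symm.trans h3
      · obtain ⟨w, rfl⟩ := (epi_iff_stalk (tπ n)).1 inferInstance y q
        exact ⟨stalkLin (cokernel.π _) y (stalkLin (tπ (n + 1)) y w), by rw [hq, hm]; exact htr y w⟩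
  obtain ⟨hff, hex⟩ := Groth.Agent.S0004.result R I X
  obtain ⟨M, hM, ⟨e⟩⟩ := hex GG hGG
  have hkill' : ∀ n, Formal.smulFamily (I ^ (n + 1)) (In 0) ≫ tπ n = 0 := fun n =>
    Limits.Sigma.hom_ext _ _ fun a => by
      rw [comp_zero, Formal.smulFamily, Limits.Sigma.ι_desc_assoc]
      refine (eq_zero_iff_stalk _).2 fun y => LinearMap.ext fun z => ?_
      rw [LinearMap.zero_apply, stalkLin_comp, LinearMap.comp_apply, hsm, map_smul]
      exact hkill n y a.1 a.2 z
  let ψ₀ : Formal.completion I (In 0) ⟶ GG :=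
    NatTrans.ofOpSequence (fun n => cokernel.desc _ (tπ n) (hkill' n)) (fun n => by
      show (Functor.ofOpSequence _).map _ ≫ _ = _ ≫ (Functor.ofOpSequence _).map _
      rw [Functor.ofOpSequence_map_homOfLE_succ, Functor.ofOpSequence_map_homOfLE_succ]
      refine (cancel_epi (cokernel.π _)).1 ?_
      rw [cokernel.π_desc_assoc, ← Category.assoc]
      erw [cokernel.π_desc, cokernel.π_desc]
      exact (towerπ_trans In G π hstep n).symm)
  obtain ⟨φ, hφ, -⟩ := hff (In 0) M hIc hM (ψ₀ ≫ e.inv)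
  let q : ∀ n, M ⟶ towerQuot In G π hstep n := fun n => Formal.modPowπ I (n + 1) M ≫ e.hom.app (op n)
  have hqφ : ∀ n, φ ≫ q n = tπ n := fun n => by
    show φ ≫ Formal.modPowπ I (n + 1) M ≫ e.hom.app (op n) = _
    rw [← Category.assoc, ← hφ n, Category.assoc, NatTrans.comp_app, Category.assoc,
      Iso.inv_hom_id_app, Category.comp_id]
    exact cokernel.π_desc _ _ _
  -- the kernel of the `n`-th projection of the limit
  have hker : ∀ n y (z : M.presheaf.stalk y), stalkLin (q n) y z = 0 →
      ∃ w, gt f y t ^ (n + 1) • w = z := fun n y z hz => by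
    rw [stalkLin_comp, LinearMap.comp_apply] at hz
    have hz' : stalkLin (Formal.modPowπ I (n + 1) M) y z = 0 :=
      ((isIso_iff_stalk (e.hom.app (op n))).1 inferInstance y).1 (hz.trans (map_zero _).symm)
    have h0 : Formal.smulFamily (I ^ (n + 1)) M ≫ cokernel.π (Formal.smulMod R M (t ^ (n + 1))) = 0 :=
      Limits.Sigma.hom_ext _ _ fun a => by
        rw [comp_zero, Formal.smulFamily, Limits.Sigma.ι_desc_assoc]
        refine (eq_zero_iff_stalk _).2 fun y => LinearMap.ext fun z => ?_
        obtain ⟨b, hb⟩ := hpow a.2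
        rw [LinearMap.zero_apply, stalkLin_comp, LinearMap.comp_apply, hsm, hb, mul_comm b, hgtmul, mul_smul, ← hsm]
        exact stalkLin_apply_zero (cokernel.condition _) y _
    have h1 : stalkLin (cokernel.π (Formal.smulMod R M (t ^ (n + 1)))) y z = 0 := by
      refine (stalkLin_eq_of_comp (f := Formal.modPowπ I (n + 1) M) (g := cokernel.desc _ _ h0)
        (cokernel.π_desc _ _ _) y z).symm.trans ?_
      rw [hz', map_zero]
    obtain ⟨w, hw⟩ := exists_of_cokernel_π_eq_zero _ y h1
    exact ⟨w, by rw [← hgt, ← hsm, hw]⟩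
  have hkerM : ∀ n y (w : M.presheaf.stalk y), stalkLin (q n) y (gt f y t ^ (n + 1) • w) = 0 := fun n y w => by
    rw [map_smul, ← hgt]
    obtain ⟨u, hu⟩ := (epi_iff_stalk (tπ n)).1 inferInstance y (stalkLin (q n) y w)
    rw [← hu]
    exact hkill n y _ (Ideal.pow_mem_pow htI _) u
  haveI := hM.1
  haveI := hIc.1
  haveI := fun y => finite_stalk_of_isFT hM.2 y
  have hmax : ∀ x : Xs, gt f (i x) t ∈ IsLocalRing.maximalIdeal (X.presheaf.stalk (i x)) := fun x => fun hu => by
    have h0 : i.stalkMap x (gt f (i x) t) = 0 := by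
      rw [stalkMap_gt hsq, show IsLocalRing.residue R t = 0 from (IsLocalRing.residue_eq_zero_iff t).2 htI,
        gt, map_zero, map_zero]
    exact not_isUnit_zero (h0 ▸ hu.map (i.stalkMap x).hom)
  have hsurj : ∀ x : Xs, Function.Surjective (stalkLin φ (i x)) := fun x => by
    rw [← LinearMap.range_eq_top]
    have hle : (⊤ : Submodule (X.presheaf.stalk (i x)) (M.presheaf.stalk (i x))) ≤
        LinearMap.range (stalkLin φ (i x)) ⊔ IsLocalRing.maximalIdeal _ • ⊤ := fun m _ => by
      obtain ⟨z, hz⟩ := (epi_iff_stalk (tπ 0)).1 inferInstance (i x) (stalkLin (q 0) (i x) m)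
      have hd : stalkLin (q 0) (i x) (m - stalkLin φ (i x) z) = 0 := by
        rw [map_sub, stalkLin_eq_of_comp (hqφ 0), hz, sub_self]
      obtain ⟨w, hw⟩ := hker 0 (i x) _ hd
      rw [pow_one] at hw
      rw [← add_sub_cancel (stalkLin φ (i x) z) m, ← hw]
      exact Submodule.add_mem_sup ⟨z, rfl⟩ (Submodule.smul_mem_smul (hmax x) Submodule.mem_top)
    exact top_le_iff.1 (Submodule.le_of_le_smul_of_le_jacobson_bot Module.Finite.fg_top
      (IsLocalRing.maximalIdeal_le_jacobson _) hle)
  haveI hepi : Epi φ := by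
    refine (epi_iff_stalk φ).2 fun y => ?_
    have hC : Coh.IsCoh (cokernel φ) := (QCohLib.isCoh_kernel_cokernel φ hIc hM).2
    have hsupp : CohB1.support (cokernel φ) = ∅ := by
      by_contra hne
      obtain ⟨y₁, hy₁⟩ := Set.nonempty_iff_ne_empty.2 hne
      have hcl : IsClosed (f '' CohB1.support (cokernel φ)) :=
        f.isClosedMap _ (isClosed_support_of_isFT hC.2)
      obtain ⟨y₂, hy₂, hfy⟩ := (IsLocalRing.specializes_closedPoint (f y₁)).mem_closed hcl ⟨y₁, hy₁, rfl⟩
      by_cases hy : y₂ ∈ Set.range i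
      · obtain ⟨x, rfl⟩ := hy
        refine (hy₂ : ¬ Subsingleton ((cokernel φ).presheaf.stalk (i x))) ⟨fun a b => ?_⟩
        have hz : ∀ c, c = (0 : (cokernel φ).presheaf.stalk (i x)) := fun c => by
          obtain ⟨m, rfl⟩ := (epi_iff_stalk (cokernel.π φ)).1 inferInstance (i x) c
          obtain ⟨z, rfl⟩ := hsurj x m
          exact stalkLin_apply_zero (cokernel.condition φ) (i x) z
        rw [hz a, hz b]
      · refine hy ?_
        obtain ⟨z, hz, -⟩ := Scheme.Pullback.exists_preimage_pullback (f := f)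
          (g := Spec.map (CommRingCat.ofHom (IsLocalRing.residue R))) y₂ (IsLocalRing.closedPoint _)
          (hfy.trans (IsLocalRing.comap_closedPoint (IsLocalRing.residue R)).symm)
        exact ⟨hsq.isoPullback.inv z, by
          rw [← Scheme.Hom.comp_apply, hsq.isoPullback_inv_fst]; exact hz⟩
    intro m
    refine exists_of_cokernel_π_eq_zero φ y ?_
    have : Subsingleton ((cokernel φ).presheaf.stalk y) := by
      by_contra h
      exact (hsupp ▸ (h : y ∈ CohB1.support (cokernel φ)) : y ∈ (∅ : Set X))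
    exact Subsingleton.elim _ _
  refine ⟨M, φ, hepi, hM, isFlatOver_of_regular ht M fun y => ?_, ?_⟩
  · by_cases hy : y ∈ Set.range i
    · obtain ⟨x, rfl⟩ := hy
      refine (injective_iff_map_eq_zero (DistribSMul.toAddMonoidHom _ (gt f (i x) t))).2 fun m hm => ?_
      obtain ⟨z, rfl⟩ := hsurj x m
      replace hm : stalkLin φ (i x) (gt f (i x) t • z) = 0 := (map_smul _ _ _).trans hm
      have hb := Ideal.iInf_pow_smul_eq_bot_of_isLocalRing (M := M.presheaf.stalk (i x))
        (IsLocalRing.maximalIdeal (X.presheaf.stalk (i x))) (IsLocalRing.maximalIdeal.isMaximal _).ne_top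
      refine (Submodule.eq_bot_iff _).1 hb _ ((Submodule.mem_iInf _).2 fun n => ?_)
      have hz : z ∈ Lat In G π hstep (n + 1) (i x) := by
        refine mem_Lat_of_smul_mem hsq ht In G G' π π' hstep hIc hIf hIs hG hG' hY' hdec (i x) (n + 1) z ?_
        rw [← htπ (n + 1), ← stalkLin_eq_of_comp (hqφ (n + 1)), hm, map_zero]
      obtain ⟨w, hw⟩ := hker n (i x) (stalkLin φ (i x) z)
        ((stalkLin_eq_of_comp (hqφ n) (i x) z).trans ((htπ n (i x) z).2 hz))
      rw [← hw]
      exact Submodule.smul_mem_smul (Ideal.pow_le_pow_right (Nat.le_succ n) (Ideal.pow_mem_pow (hmax x) _))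
        Submodule.mem_top
    · exact (isUnit_gt hsq ht hy).isSMulRegular _
  · haveI := (hG 0).1
    refine exists_iso_of_epi ((Scheme.Modules.pullback i).map φ) (π 0) fun x zz => ?_
    haveI := hIc.1
    haveI := hM.1
    have hρ : RingHom.ker (IsLocalRing.residue R) = Ideal.span {t} := by
      rw [IsLocalRing.ker_residue, ht.maximalIdeal_eq]
    obtain ⟨w, rfl⟩ := (pullStalk_quot (i := i) hsq IsLocalRing.residue_surjective hρ (In 0) x).1 zz
    rw [pullStalk_natural, (pullStalk_quot (i := i) hsq IsLocalRing.residue_surjective hρ M x).2]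
    rw [← incl_zero_iff In G π hstep 0 x w, ← mem_Lat_succ In G π hstep 0 (i x) w,
      show stalkLin (inclZero In G π hstep 0) (i x) w = w by rw [inclZero, stalkLin_id, LinearMap.id_apply],
      ← htπ 0, ← stalkLin_eq_of_comp (hqφ 0)]
    constructor
    · rintro ⟨v, hv⟩
      rw [← hv, ← pow_one (gt f (i x) t)]
      exact hkerM 0 (i x) v
    · intro h
      obtain ⟨v, hv⟩ := hker 0 (i x) _ h
      exact ⟨v, by rwa [pow_one] at hv⟩

end Groth.Agent.TFOneLib
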