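import Groth.Agent.TFOneLib.Setup
import Groth.Prelude.Def_TFOne

/-!
# The tower of modifications along a decomposing quotient
-/

set_option autoImplicit false
set_option backward.isDefEq.respectTransparency false
set_option linter.style.haveILetI false

universe u

open CategoryTheory CategoryTheory.Limits AlgebraicGeometry TopologicalSpace Opposite

noncomputable section

namespace Groth.Agent.TFOneLib

open MeroLib (IsMaxPt)
open PullbackMod DCohLib

variable {R : Type u} [CommRing R] [IsDomain R] [IsDiscreteValuationRing R] {X : Scheme.{u}}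
  {f : X ⟶ Spec (CommRingCat.of R)} {Xs : Scheme.{u}}
  [Xs.Over (Spec (CommRingCat.of (IsLocalRing.ResidueField R)))] {i : Xs ⟶ X}

/-- Off the special fibre the uniformiser is a unit. -/
theorem isUnit_gt (hsq : IsPullback i (Xs ↘ Spec (CommRingCat.of (IsLocalRing.ResidueField R))) f
      (Spec.map (CommRingCat.ofHom (IsLocalRing.residue R)))) {t : R} (ht : Irreducible t) {y : X}
    (hy : y ∉ Set.range i) : IsUnit (gt f y t) := by
  by_contra hu
  refine hy ?_
  have hfy : ¬ IsUnit ((Spec (CommRingCat.of R)).presheaf.germ ⊤ (f y) trivial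
      ((Scheme.ΓSpecIso (CommRingCat.of R)).inv t)) := fun h => hu (by
    have h2 := h.map (f.stalkMap y).hom
    rwa [show (f.stalkMap y).hom ((Spec (CommRingCat.of R)).presheaf.germ ⊤ (f y) trivial
      ((Scheme.ΓSpecIso (CommRingCat.of R)).inv t)) = gt f y t from Scheme.Hom.germ_stalkMap_apply f ⊤ y trivial _] at h2)
  have hmem : t ∈ (f y).asIdeal := by
    by_contra ht'
    refine hfy ?_
    have h1 : f y ∈ (Spec (CommRingCat.of R)).basicOpen ((Scheme.ΓSpecIso (CommRingCat.of R)).inv t) := by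
      rw [basicOpen_eq_of_affine', PrimeSpectrum.mem_basicOpen]
      simpa using ht'
    exact ((Spec (CommRingCat.of R)).mem_basicOpen_top _ (f y)).1 h1
  have hmax : (f y).asIdeal = IsLocalRing.maximalIdeal R := by
    refine ((IsLocalRing.maximalIdeal.isMaximal R).eq_of_le (f y).isPrime.ne_top ?_).symm
    rw [ht.maximalIdeal_eq, Ideal.span_singleton_le_iff_mem]
    exact hmem
  have hy0 : f y = Spec.map (CommRingCat.ofHom (IsLocalRing.residue R)) (IsLocalRing.closedPoint _) := by
    refine PrimeSpectrum.ext (hmax.trans ?_)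
    show _ = Ideal.comap (IsLocalRing.residue R) (IsLocalRing.maximalIdeal _)
    rw [IsLocalRing.maximalIdeal_eq_bot, ← RingHom.ker_eq_comap_bot, IsLocalRing.ker_residue]
  obtain ⟨z, hz, -⟩ := Scheme.Pullback.exists_preimage_pullback y _ hy0
  refine ⟨hsq.isoPullback.inv z, ?_⟩
  rw [← Scheme.Hom.comp_apply, hsq.isoPullback_inv_fst]
  exact hz

omit [IsDomain R] [IsDiscreteValuationRing R] in
/-- A germ of a global element of the base acts through the stalk map. -/
theorem gt_eq_stalkMap (y : X) (a : R) : gt f y a = f.stalkMap y ((Spec (CommRingCat.of R)).presheaf.germ ⊤ (f y) trivial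
    ((Scheme.ΓSpecIso (CommRingCat.of R)).inv a)) :=
  (Scheme.Hom.germ_stalkMap_apply f ⊤ y trivial _).symm

/-- A module on which the uniformiser acts injectively is flat over the valuation ring. -/
theorem isFlatOver_of_regular {t : R} (ht : Irreducible t) (M : X.Modules)
    (h : ∀ y, IsSMulRegular (M.presheaf.stalk y) (gt f y t)) : FlatMod.IsFlatOver f M := fun y => by
  let A := Γ(Spec (CommRingCat.of R), ⊤)
  let S := (Spec (CommRingCat.of R)).presheaf.stalk (f y)
  let y₀ : (⊤ : (Spec (CommRingCat.of R)).Opens) := ⟨f y, trivial⟩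
  let γ : R ≃+* A := (Scheme.ΓSpecIso (CommRingCat.of R)).commRingCatIsoToRingEquiv.symm
  letI := FlatMod.moduleStalkOver f M y
  letI : Algebra A S := TopCat.Presheaf.algebra_section_stalk (Spec (CommRingCat.of R)).presheaf y₀
  letI : Module A (M.presheaf.stalk y) := Module.compHom _ (algebraMap A S)
  haveI : IsScalarTower A S (M.presheaf.stalk y) := .of_algebraMap_smul fun _ _ => rfl
  haveI := (isAffineOpen_top (Spec (CommRingCat.of R))).isLocalization_stalk y₀
  haveI : IsDomain A := γ.toMulEquiv.symm.isDomain R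
  haveI : IsPrincipalIdealRing A := IsPrincipalIdealRing.of_surjective γ.toRingHom γ.surjective
  refine (Module.flat_iff_of_isLocalization S
    ((isAffineOpen_top (Spec (CommRingCat.of R))).primeIdealOf y₀).asIdeal.primeCompl
    (M.presheaf.stalk y)).2 ?_
  rw [Module.Flat.flat_iff_torsion_eq_bot_of_isBezout, Submodule.eq_bot_iff]
  intro z hz
  obtain ⟨⟨a, ha⟩, hz⟩ := (Submodule.mem_torsion_iff _).1 hz
  obtain ⟨r, rfl⟩ := γ.surjective a
  have hr : r ≠ 0 := fun h0 => nonZeroDivisors.ne_zero ha (by rw [h0, map_zero])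
  obtain ⟨n, u, rfl⟩ := IsDiscreteValuationRing.eq_unit_mul_pow_irreducible hr ht
  have hz' : gt f y ((u : R) * t ^ n) • z = 0 := by
    rw [gt_eq_stalkMap]
    exact hz
  have hm : gt f y ((u : R) * t ^ n) = gt f y (u : R) * gt f y t ^ n := by
    show X.presheaf.germ ⊤ y trivial (Coh.toGlobal f _) = _
    rw [map_mul, map_mul, map_pow, map_pow]
  rw [hm, mul_smul] at hz'
  have hu : IsUnit (gt f y (u : R)) := (u.isUnit.map (Coh.toGlobal f)).map (X.presheaf.germ ⊤ y trivial).hom
  exact ((h y).pow n) ((hu.smul_eq_zero.1 hz').trans (smul_zero _).symm)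

variable [IsReduced Xs]

/-- In a decomposing modification the multiplication maps the quotient onto the next one. -/
theorem bijective_next {M J P G₁ G₂ : Xs.Modules} [IsLocallyNoetherian Xs] {π : M ⟶ P} {Y Y' : Set Xs}
    (hM : TFOne.IsTF1 Xs M) (hP : TFOne.IsQuotOn Xs M Y P π) {α : P ⟶ J} {β : J ⟶ M} (hJ : IsModif π α β)
    {p₁ : J ⟶ G₁} {p₂ : J ⟶ G₂} (h₁ : TFOne.IsQuotOn Xs J Y G₁ p₁) (h₂ : TFOne.IsQuotOn Xs J Y' G₂ p₂)
    (hY' : ∀ η, IsMaxPt η → (η ∈ Y' ↔ η ∉ Y)) [IsIso (biprod.lift p₁ p₂)] (x : Xs) :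
    Function.Bijective (stalkLin (α ≫ p₁) x) := by
  haveI := h₁.2.1.1
  haveI := h₂.2.1.1
  haveI := hM.1.1
  let L := biprod.lift p₁ p₂
  have hα2 : α ≫ p₂ = 0 := hom_eq_zero h₂.2.2.1 _ fun η hη => LinearMap.ext fun z => by
    rw [LinearMap.zero_apply]
    by_cases hY : η ∈ Y
    · exact stalk_zero_of_notMem h₂ (fun h => (hY' η hη).1 h hY) _
    · rw [stalk_zero_of_notMem hP hY z, map_zero]
  let s : G₁ ⟶ J := biprod.inl ≫ inv L
  have hs1 : s ≫ p₁ = 𝟙 G₁ := by
    rw [Category.assoc, show p₁ = L ≫ biprod.fst from (biprod.lift_fst _ _).symm, IsIso.inv_hom_id_assoc,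
      biprod.inl_fst]
  have hs2 : s ≫ p₂ = 0 := by
    rw [Category.assoc, show p₂ = L ≫ biprod.snd from (biprod.lift_snd _ _).symm, IsIso.inv_hom_id_assoc,
      biprod.inl_snd]
  have hsβ : s ≫ β = 0 := hom_eq_zero hM.2.1 _ fun η hη => LinearMap.ext fun z => by
    rw [LinearMap.zero_apply, stalkLin_comp, LinearMap.comp_apply]
    by_cases hY : η ∈ Y
    · exact (bijective_stalk hM.2.2 hP hη hY).1 (((hJ.exact₂ η).apply_apply_eq_zero _).trans (map_zero _).symm)
    · rw [stalk_zero_of_notMem h₁ hY z, map_zero, map_zero]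
  refine ⟨(injective_iff_map_eq_zero _).2 fun z hz => ?_, fun e => ?_⟩
  · rw [stalkLin_comp, LinearMap.comp_apply] at hz
    have h2 : stalkLin p₂ x (stalkLin α x z) = 0 := stalkLin_apply_zero hα2 x z
    have hL : stalkLin L x (stalkLin α x z) = 0 := biprod_ext_stalk x
      (by rw [stalkLin_eq_of_comp (biprod.lift_fst p₁ p₂), hz])
      (by rw [stalkLin_eq_of_comp (biprod.lift_snd p₁ p₂), h2])
    exact hJ.inj x ((((isIso_iff_stalk L).1 inferInstance x).1 (hL.trans (map_zero _).symm)).trans (map_zero _).symm)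
  · obtain ⟨g, hg⟩ := (hJ.exact₁ x (stalkLin s x e)).1 (stalkLin_apply_zero hsβ x e)
    refine ⟨g, ?_⟩
    rw [stalkLin_comp, LinearMap.comp_apply, hg, stalkLin_eq_of_comp hs1, stalkLin_id, LinearMap.id_apply]

variable [IsLocallyNoetherian X] [IsLocallyNoetherian Xs] [IsClosedImmersion i]

variable (hsq : IsPullback i (Xs ↘ Spec (CommRingCat.of (IsLocalRing.ResidueField R))) f
    (Spec.map (CommRingCat.ofHom (IsLocalRing.residue R)))) {t : R} (ht : Irreducible t)
  (In : ℕ → X.Modules) {Y Y' : Set Xs} (G G' : ℕ → Xs.Modules)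
  (π : ∀ n, (Scheme.Modules.pullback i).obj (In n) ⟶ G n)
  (π' : ∀ n, (Scheme.Modules.pullback i).obj (In n) ⟶ G' n)
  (hstep : ∀ n, In (n + 1) = kernel ((Scheme.Modules.pullbackPushforwardAdjunction i).unit.app (In n) ≫
    (Scheme.Modules.pushforward i).map (π n)))

/-- The inclusion of a step. -/
def incl (n : ℕ) : In (n + 1) ⟶ In n := eqToHom (hstep n) ≫ kernel.ι _

instance mono_incl (n : ℕ) : Mono (incl In G π hstep n) := mono_comp _ _

/-- The inclusion into the start. -/
def inclZero : ∀ n, In n ⟶ In 0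
  | 0 => 𝟙 _
  | n + 1 => incl In G π hstep n ≫ inclZero n

instance mono_inclZero : ∀ n, Mono (inclZero In G π hstep n)
  | 0 => inferInstanceAs (Mono (𝟙 _))
  | n + 1 => haveI := mono_inclZero n; mono_comp _ _

omit [IsLocallyNoetherian Xs] [IsReduced Xs] [IsLocallyNoetherian X] in
theorem incl_zero_iff (n : ℕ) (x : Xs) (w : (In n).presheaf.stalk (i x)) :
    (∃ a, stalkLin (incl In G π hstep n) (i x) a = w) ↔ stalkLin (π n) x (pullStalk i (In n) x w) = 0 := by
  set g := (Scheme.Modules.pullbackPushforwardAdjunction i).unit.app (In n) ≫ (Scheme.Modules.pushforward i).map (π n)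
  have hg : pushStalk i (G n) x (stalkLin g (i x) w) = stalkLin (π n) x (pullStalk i (In n) x w) := by
    rw [stalkLin_comp, LinearMap.comp_apply]
    exact (pushStalk_natural i (π n) x _).trans (congrArg _ (unit_stalk_pushStalk i (In n) x w))
  have hc : incl In G π hstep n ≫ g = 0 := by rw [incl, Category.assoc, kernel.condition, comp_zero]
  constructor
  · rintro ⟨a, rfl⟩
    have h0 : stalkLin g (i x) (stalkLin (incl In G π hstep n) (i x) a) = 0 := by
      exact stalkLin_apply_zero hc (i x) a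
    exact hg.symm.trans ((congrArg (pushStalk i (G n) x) h0).trans (map_zero _))
  · intro h
    obtain ⟨a, rfl⟩ := exists_of_stalkLin_eq_zero g (i x)
      ((bijective_pushStalk i (G n) x).1 ((hg.trans h).trans (map_zero _).symm))
    refine ⟨stalkLin (eqToHom (hstep n).symm) (i x) a, ?_⟩
    exact stalkLin_eq_of_comp (by simp [incl, g]) (i x) a

omit [IsLocallyNoetherian Xs] [IsReduced Xs] [IsLocallyNoetherian X] in
theorem incl_surjective_off (n : ℕ) {y : X} (hy : y ∉ Set.range i) :
    Function.Surjective (stalkLin (incl In G π hstep n) y) := fun w => by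
  obtain ⟨a, rfl⟩ := exists_of_stalkLin_eq_zero ((Scheme.Modules.pullbackPushforwardAdjunction i).unit.app (In n) ≫
    (Scheme.Modules.pushforward i).map (π n)) y (z := w)
      (@Subsingleton.elim _ (subsingleton_stalk_pushforward i (G n) y hy) _ 0)
  exact ⟨stalkLin (eqToHom (hstep n).symm) y a, stalkLin_eq_of_comp (by simp [incl]) y a⟩

/-- The image of the `n`-th module in a stalk of the start. -/
def Lat (n : ℕ) (y : X) : Submodule (X.presheaf.stalk y) ((In 0).presheaf.stalk y) :=
  LinearMap.range (stalkLin (inclZero In G π hstep n) y)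

omit [IsLocallyNoetherian Xs] [IsReduced Xs] [IsLocallyNoetherian X] [IsClosedImmersion i] in
theorem mem_Lat_succ (n : ℕ) (y : X) (w : (In n).presheaf.stalk y) :
    stalkLin (inclZero In G π hstep n) y w ∈ Lat In G π hstep (n + 1) y ↔
      ∃ a, stalkLin (incl In G π hstep n) y a = w := by
  constructor
  · rintro ⟨a, ha⟩
    refine ⟨a, (mono_iff_stalk (inclZero In G π hstep n)).1 inferInstance y ?_⟩
    rw [← LinearMap.comp_apply, ← stalkLin_comp]
    exact ha
  · rintro ⟨a, rfl⟩
    exact ⟨a, by rw [inclZero, stalkLin_comp, LinearMap.comp_apply]⟩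

omit [IsLocallyNoetherian Xs] [IsReduced Xs] [IsLocallyNoetherian X] [IsClosedImmersion i] in
theorem Lat_succ_le (n : ℕ) (y : X) : Lat In G π hstep (n + 1) y ≤ Lat In G π hstep n y := by
  rintro _ ⟨a, rfl⟩
  exact ⟨stalkLin (incl In G π hstep n) y a, by rw [inclZero, stalkLin_comp, LinearMap.comp_apply]⟩

variable (hIc : Coh.IsCoh (In 0)) (hIf : FlatMod.IsFlatOver f (In 0))
  (hIs : TFOne.IsTF1 Xs ((Scheme.Modules.pullback i).obj (In 0)))
  (hG : ∀ n, TFOne.IsQuotOn Xs ((Scheme.Modules.pullback i).obj (In n)) Y (G n) (π n))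
  (hG' : ∀ n, TFOne.IsQuotOn Xs ((Scheme.Modules.pullback i).obj (In n)) Y' (G' n) (π' n))
  (hY' : ∀ η : Xs, IsMaxPt η → (η ∈ Y' ↔ η ∉ Y))
  (hdec : ∀ n, IsIso (biprod.lift (π n) (π' n)))

omit [IsReduced Xs] [IsLocallyNoetherian Xs] in
include hIc hG hstep in
theorem isCoh_In : ∀ n, Coh.IsCoh (In n)
  | 0 => hIc
  | n + 1 => by
    rw [hstep n]
    exact (QCohLib.isCoh_kernel_cokernel _ (isCoh_In n) (DevLib.isCoh_pushforward_closed i (hG n).2.1)).1

omit [IsReduced Xs] [IsLocallyNoetherian Xs] [IsLocallyNoetherian X] [IsClosedImmersion i] in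
include hIf hstep in
theorem isFlat_In (n : ℕ) (y : X) (z : (In n).presheaf.stalk y) (h : gt f y t • z = 0) (ht : t ≠ 0) : z = 0 := by
  refine (mono_iff_stalk (inclZero In G π hstep n)).1 inferInstance y ((isSMulRegular_gt ht hIf y) ?_)
  show gt f y t • _ = gt f y t • _
  rw [← map_smul, h, map_zero, smul_zero]

include hsq ht hIc hIf hIs hG hG' hY' hdec in
/-- The data of a step: stalkwise the multiplication identifies consecutive quotients. -/
theorem step_data : ∀ n, TFOne.IsTF1 Xs ((Scheme.Modules.pullback i).obj (In n)) ∧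
    (∀ (x : Xs) (w : (In n).presheaf.stalk (i x)), ∃ a, stalkLin (incl In G π hstep n) (i x) a = gt f (i x) t • w ∧
      (stalkLin (π (n + 1)) x (pullStalk i (In (n + 1)) x a) = 0 →
        stalkLin (π n) x (pullStalk i (In n) x w) = 0)) ∧
    ∀ (x : Xs) (b : (In (n + 1)).presheaf.stalk (i x)), ∃ w a, stalkLin (incl In G π hstep n) (i x) a = gt f (i x) t • w ∧
      stalkLin (π (n + 1)) x (pullStalk i (In (n + 1)) x (b - a)) = 0 := by
  have hflat : ∀ n, ∀ y, IsSMulRegular ((In n).presheaf.stalk y) (gt f y t) := fun n y =>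
    (injective_iff_map_eq_zero (DistribSMul.toAddMonoidHom _ (gt f y t))).2 fun z hz =>
      isFlat_In In G π hstep hIf n y z hz ht.ne_zero
  have main : ∀ n, TFOne.IsTF1 Xs ((Scheme.Modules.pullback i).obj (In n)) →
      TFOne.IsTF1 Xs ((Scheme.Modules.pullback i).obj (In (n + 1))) ∧
      (∀ (x : Xs) (w : (In n).presheaf.stalk (i x)), ∃ a, stalkLin (incl In G π hstep n) (i x) a = gt f (i x) t • w ∧
        (stalkLin (π (n + 1)) x (pullStalk i (In (n + 1)) x a) = 0 →
          stalkLin (π n) x (pullStalk i (In n) x w) = 0)) ∧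
      ∀ (x : Xs) (b : (In (n + 1)).presheaf.stalk (i x)), ∃ w a, stalkLin (incl In G π hstep n) (i x) a = gt f (i x) t • w ∧
        stalkLin (π (n + 1)) x (pullStalk i (In (n + 1)) x (b - a)) = 0 := fun n hn => by
    haveI := (hG n).1
    obtain ⟨hc, α, β, h⟩ := exists_modif' i hsq ht.ne_zero IsLocalRing.residue_surjective
      (by rw [IsLocalRing.ker_residue, ht.maximalIdeal_eq]) (isCoh_In In G π hstep hIc hG n)
      (isFlatOver_of_regular ht (In n) (hflat n)) (hG n).2.1 (π n) (hstep n)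
    have hJ : IsModif (π n) α β := ⟨hc, fun x => (h x).1, fun x => (h x).2.1, fun x => (h x).2.2.1⟩
    haveI := hdec (n + 1)
    have hb := bijective_next hn (hG n) hJ (hG (n + 1)) (hG' (n + 1)) hY'
    refine ⟨hJ.isTF1 hn (hG n), fun x w => ?_, fun x b => ?_⟩
    · obtain ⟨a, ha, hα⟩ := (h x).2.2.2 w
      refine ⟨a, ha, fun h0 => (hb x).1 ?_⟩
      rw [map_zero, stalkLin_comp, LinearMap.comp_apply, hα, h0]
    · obtain ⟨g, hg⟩ := (hb x).2 (stalkLin (π (n + 1)) x (pullStalk i (In (n + 1)) x b))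
      obtain ⟨y, rfl⟩ := (epi_iff_stalk (π n)).1 inferInstance x g
      haveI := (isCoh_In In G π hstep hIc hG n).1
      obtain ⟨w, rfl⟩ := (pullStalk_quot (i := i) hsq IsLocalRing.residue_surjective
        (by rw [IsLocalRing.ker_residue, ht.maximalIdeal_eq]) (In n) x).1 y
      obtain ⟨a, ha, hα⟩ := (h x).2.2.2 w
      refine ⟨w, a, ha, ?_⟩
      rw [map_sub, map_sub, ← hg, stalkLin_comp, LinearMap.comp_apply, hα, sub_self]
  intro n
  induction n with
  | zero => exact ⟨hIs, (main 0 hIs).2⟩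
  | succ n ih => exact ⟨(main n ih.1).1, (main (n + 1) (main n ih.1).1).2⟩

include hsq ht hIc hIf hIs hG hG' hY' hdec in
/-- The key properties of the lattices. -/
theorem Lat_props (n : ℕ) (y : X) :
    (∀ z ∈ Lat In G π hstep n y, gt f y t • z ∈ Lat In G π hstep (n + 1) y) ∧
    (∀ z ∈ Lat In G π hstep n y, gt f y t • z ∈ Lat In G π hstep (n + 2) y → z ∈ Lat In G π hstep (n + 1) y) ∧
    (∀ z ∈ Lat In G π hstep (n + 1) y, ∃ w ∈ Lat In G π hstep n y,
      z - gt f y t • w ∈ Lat In G π hstep (n + 2) y) := by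
  by_cases hy : y ∈ Set.range i
  · obtain ⟨x, rfl⟩ := hy
    obtain ⟨-, h1, h2⟩ := step_data hsq ht In G G' π π' hstep hIc hIf hIs hG hG' hY' hdec n
    have hi : ∀ (a : (In (n + 1)).presheaf.stalk (i x)),
        stalkLin (inclZero In G π hstep n) (i x) (stalkLin (incl In G π hstep n) (i x) a) =
          stalkLin (inclZero In G π hstep (n + 1)) (i x) a := fun a => by
      rw [inclZero, stalkLin_comp, LinearMap.comp_apply]
    refine ⟨?_, ?_, ?_⟩
    · rintro _ ⟨w, rfl⟩
      obtain ⟨a, ha, -⟩ := h1 x w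
      exact ⟨a, by rw [← hi, ha, map_smul]⟩
    · rintro _ ⟨w, rfl⟩ hm
      obtain ⟨a, ha, hz⟩ := h1 x w
      rw [← map_smul, ← ha, hi, mem_Lat_succ, incl_zero_iff] at hm
      exact (mem_Lat_succ In G π hstep n (i x) w).2 ((incl_zero_iff In G π hstep n x w).2 (hz hm))
    · rintro _ ⟨b, rfl⟩
      obtain ⟨w, a, ha, hz⟩ := h2 x b
      refine ⟨_, ⟨w, rfl⟩, ?_⟩
      rw [← map_smul, ← ha, hi, ← map_sub, mem_Lat_succ, incl_zero_iff]
      exact hz
  · have htop : ∀ m, Lat In G π hstep m y = ⊤ := fun m => by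
      induction m with
      | zero => exact LinearMap.range_eq_top.2 fun z => ⟨z, by rw [inclZero, stalkLin_id, LinearMap.id_apply]⟩
      | succ m ih =>
        refine LinearMap.range_eq_top.2 fun z => ?_
        obtain ⟨w, rfl⟩ := (LinearMap.range_eq_top.1 ih) z
        obtain ⟨a, rfl⟩ := incl_surjective_off In G π hstep m hy w
        exact ⟨a, by rw [inclZero, stalkLin_comp, LinearMap.comp_apply]⟩
    refine ⟨fun z _ => ?_, fun z _ _ => ?_, fun z _ => ⟨0, zero_mem _, ?_⟩⟩ <;>
      simp only [htop, Submodule.mem_top]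

end Groth.Agent.TFOneLib
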