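import Groth.Prelude.Def_VecSt
import Groth.Agent.DegDevLib.Comp
import Groth.Agent.TFOneLib.Dim
import Groth.Agent.ParaFLib.Stalk
import Groth.Agent.DVRCrit.Generic
import Groth.Agent.MeroLib.Total

/-!
# Degrees on subcurves are sums over the components
-/

set_option autoImplicit false
set_option backward.isDefEq.respectTransparency false
set_option linter.style.haveILetI false

universe u

open CategoryTheory CategoryTheory.Limits AlgebraicGeometry TopologicalSpace Opposite

noncomputable section

namespace Groth.Agent.TFOneLib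

open DCohLib

variable {X : Scheme.{u}}

/-- The degree on the reduced closed subscheme of a closed subset. -/
abbrev degOn (k : Type u) [Field k] [X.Over (Spec (CommRingCat.of k))] (E : X.Modules) (r : ℕ) (T : Set X)
    (hT : IsClosed T) : ℤ :=
  @Curv2.deg k _ (VecSt.subsch X T hT) ⟨VecSt.subschι X T hT ≫ (X ↘ Spec (CommRingCat.of k))⟩
    ((Scheme.Modules.pullback (VecSt.subschι X T hT)).obj E) r

/-- At a maximal point the structure sheaf of a closed subset has length one or zero. -/
theorem length_stalk_quotMod [IsReduced X] {T : Set X} (hT : IsClosed T) {η : X} (hη : MeroLib.IsMaxPt η) :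
    ((Module.length (X.presheaf.stalk η)
      ((ClSub.quotMod (Scheme.IdealSheafData.vanishingIdeal (⟨T, hT⟩ : Closeds X))).presheaf.stalk η)).toNat : ℤ) =
      T.indicator (fun _ => (1 : ℤ)) η := by
  classical
  let J := Scheme.IdealSheafData.vanishingIdeal (⟨T, hT⟩ : Closeds X)
  have hr : Set.range J.subschemeι = T := by
    rw [Scheme.IdealSheafData.range_subschemeι, Scheme.IdealSheafData.coe_support_vanishingIdeal]
    rfl
  by_cases h : η ∈ T
  · rw [Set.indicator_of_mem h]
    obtain ⟨x, rfl⟩ := (show η ∈ Set.range J.subschemeι by rw [hr]; exact h)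
    letI := (MeroLib.isField_stalk hη).toField
    let O := Coh.structureModule J.subscheme
    obtain ⟨z, hz⟩ := (bijective_pushStalk J.subschemeι O x).2 (ParaFLib.oneG x)
    have hbij : Function.Bijective (LinearMap.toSpanSingleton (X.presheaf.stalk (J.subschemeι x)) _ z) := by
      refine ⟨(injective_iff_map_eq_zero _).2 fun a ha => ?_, fun y => ?_⟩
      · by_contra hne
        have hz0 : z = 0 := (smul_eq_zero.1 ha).resolve_left hne
        rw [hz0, map_zero] at hz
        refine one_ne_zero (α := J.subscheme.presheaf.stalk x) ((ParaFLib.bijective_oneG x).1 ?_)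
        show (1 : J.subscheme.presheaf.stalk x) • ParaFLib.oneG x = (0 : J.subscheme.presheaf.stalk x) • ParaFLib.oneG x
        rw [zero_smul, one_smul, ← hz]
      · obtain ⟨b, hb⟩ := (ParaFLib.bijective_oneG x).2 (pushStalk J.subschemeι O x y)
        obtain ⟨a, rfl⟩ := J.subschemeι.stalkMap_surjective x b
        refine ⟨a, (bijective_pushStalk J.subschemeι O x).1 ?_⟩
        rw [LinearMap.toSpanSingleton_apply, pushStalk_smul, hz]
        exact hb
    show ((Module.length _ (((Scheme.Modules.pushforward J.subschemeι).obj O).presheaf.stalk _)).toNat : ℤ) = 1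
    rw [← (LinearEquiv.ofBijective _ hbij).length_eq, Module.length_eq_one]
    simp
  · rw [Set.indicator_of_notMem h]
    haveI : Subsingleton ((ClSub.quotMod J).presheaf.stalk η) :=
      subsingleton_stalk_pushforward J.subschemeι _ η (by rw [hr]; exact h)
    rw [Module.length_eq_zero]
    simp

/-- The degree on a closed subset is the sum over its components. -/
theorem degOn_eq (k : Type u) [Field k] [X.Over (Spec (CommRingCat.of k))] [IsProper (X ↘ Spec (CommRingCat.of k))]
    [IsNoetherian X] [IsReduced X] (hdim : topologicalKrullDim X ≤ 1) {r : ℕ} {E : X.Modules}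
    (hE : FlatMod.IsFinLocFreeOfRank r E) {T : Set X} (hT : IsClosed T) :
    degOn k E r T hT = ∑ᶠ Z : irreducibleComponents (X : Type u), T.indicator (fun _ => (1 : ℤ)) Z.2.1.genericPoint *
      (if topologicalKrullDim (Z.1 : Set X) = 1 then
        @Curv2.deg k _ (X.irreducibleComponentIdeal Z.1 Z.2).radical.subscheme
          ⟨(X.irreducibleComponentIdeal Z.1 Z.2).radical.subschemeι ≫ (X ↘ (Spec (CommRingCat.of k)))⟩
          ((Scheme.Modules.pullback (X.irreducibleComponentIdeal Z.1 Z.2).radical.subschemeι).obj E) r
      else 0) := by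
  rw [degOn, ← DegDevLib.twEuler_push k hE (Scheme.IdealSheafData.vanishingIdeal (⟨T, hT⟩ : Closeds X)),
    DegDevLib.twEuler_components k hdim hE (DevLib.isCoh_pushforward_closed _ (DevLib.isCoh_structureModule _))]
  refine finsum_congr fun Z => ?_
  have hη : MeroLib.IsMaxPt Z.2.1.genericPoint := by
    rw [MeroLib.isMaxPt_iff]
    show closure {Z.2.1.genericPoint} ∈ irreducibleComponents (X : Type u)
    rw [Z.2.1.closure_genericPoint (isClosed_of_mem_irreducibleComponents _ Z.2)]
    exact Z.2
  split_ifs
  · rw [length_stalk_quotMod hT hη]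
  · rw [mul_zero]

/-- Inclusion–exclusion for the degrees on closed subsets. -/
theorem degOn_add_degOn (k : Type u) [Field k] [X.Over (Spec (CommRingCat.of k))] [IsProper (X ↘ Spec (CommRingCat.of k))]
    [IsNoetherian X] [IsReduced X] (hdim : topologicalKrullDim X ≤ 1) {r : ℕ} {E : X.Modules}
    (hE : FlatMod.IsFinLocFreeOfRank r E) {A B C D : Set X} (hA : IsClosed A) (hB : IsClosed B) (hC : IsClosed C)
    (hD : IsClosed D)
    (h : ∀ η ∈ genericPoints X, A.indicator (fun _ => (1 : ℤ)) η + B.indicator (fun _ => (1 : ℤ)) η =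
      C.indicator (fun _ => (1 : ℤ)) η + D.indicator (fun _ => (1 : ℤ)) η) :
    degOn k E r A hA + degOn k E r B hB = degOn k E r C hC + degOn k E r D hD := by
  haveI : Finite (irreducibleComponents (X : Type u)) :=
    (NoetherianSpace.finite_irreducibleComponents (α := X)).to_subtype
  rw [degOn_eq k hdim hE, degOn_eq k hdim hE, degOn_eq k hdim hE, degOn_eq k hdim hE,
    ← finsum_add_distrib (Set.toFinite _) (Set.toFinite _), ← finsum_add_distrib (Set.toFinite _) (Set.toFinite _)]
  refine finsum_congr fun Z => ?_
  rw [← add_mul, ← add_mul, h Z.2.1.genericPoint (by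
    show closure {Z.2.1.genericPoint} ∈ irreducibleComponents (X : Type u)
    rw [Z.2.1.closure_genericPoint (isClosed_of_mem_irreducibleComponents _ Z.2)]
    exact Z.2)]

end Groth.Agent.TFOneLib
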