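import Groth.Agent.TFOneLib.Modif2
import Groth.Agent.TFOneLib.Decomp
import Groth.Agent.QCohLib.Push
import Groth.Agent.S1575

/-!
# Existence of the torsion-free quotient with prescribed maximal points
-/

set_option autoImplicit false
set_option backward.isDefEq.respectTransparency false
set_option linter.style.haveILetI false

universe u

open CategoryTheory CategoryTheory.Limits AlgebraicGeometry TopologicalSpace Opposite

noncomputable section

namespace Groth.Agent.TFOneLib

open MeroLib (IsMaxPt)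
open PullbackMod

variable {X : Scheme.{u}} [IsReduced X]

/-- A section with regular germ is a unit at the maximal generalizations. -/
theorem isUnit_germ_of_regular {W : X.Opens} (hW : IsAffineOpen W) {x η : X} (hx : x ∈ W) (hη : η ∈ W)
    (hmax : IsMaxPt η) (hs : η ⤳ x) {a : Γ(X, W)}
    (ha : X.presheaf.germ W x hx a ∈ nonZeroDivisors (X.presheaf.stalk x)) :
    IsUnit (X.presheaf.germ W η hη a) := by
  letI : Algebra Γ(X, W) (X.presheaf.stalk η) := TopCat.Presheaf.algebra_section_stalk X.presheaf ⟨η, hη⟩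
  haveI := hW.isLocalization_stalk ⟨η, hη⟩
  letI : Algebra Γ(X, W) (X.presheaf.stalk x) := TopCat.Presheaf.algebra_section_stalk X.presheaf ⟨x, hx⟩
  haveI := hW.isLocalization_stalk ⟨x, hx⟩
  refine IsLocalization.map_units (X.presheaf.stalk η)
    (⟨a, fun h => ?_⟩ : (hW.primeIdealOf ⟨η, hη⟩).asIdeal.primeCompl)
  have hle : AssLib.pr hW hη ≤ AssLib.pr hW hx := (AssLib.specializes_iff hW hx hη).1 hs
  have hd : Disjoint ((AssLib.pr hW hx).primeCompl : Set Γ(X, W)) (AssLib.pr hW hη) :=
    Set.disjoint_left.2 fun c hc hc' => hc (hle hc')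
  have hQ := IsLocalization.isPrime_of_isPrime_disjoint (AssLib.pr hW hx).primeCompl
    (X.presheaf.stalk x) (AssLib.pr hW hη) inferInstance hd
  let Q := (AssLib.pr hW hη).map (algebraMap Γ(X, W) (X.presheaf.stalk x))
  haveI : Q.IsPrime := hQ
  have hQmin : Q ∈ minimalPrimes (X.presheaf.stalk x) := by
    refine ⟨⟨hQ, bot_le⟩, fun P hP hPQ => ?_⟩
    haveI := hP.1
    let q : PrimeSpectrum Γ(X, W) := ⟨P.comap (algebraMap Γ(X, W) (X.presheaf.stalk x)), inferInstance⟩
    have h1 : q.asIdeal ≤ AssLib.pr hW hη := (Ideal.comap_mono hPQ).trans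
      (IsLocalization.under_map_of_isPrime_disjoint _ (X.presheaf.stalk x) inferInstance hd).le
    have h2 : AssLib.pt hW q = η := hmax _ ((AssLib.specializes_iff hW hη (AssLib.pt_mem hW q)).2
      (by rw [AssLib.pr_pt hW q]; exact h1))
    have h3 : q.asIdeal = AssLib.pr hW hη := by
      subst h2
      exact (AssLib.pr_pt hW q).symm
    exact Ideal.map_le_iff_le_comap.2 h3.ge
  exact (((Groth.Agent.S6295.result (X.presheaf.stalk x)).2.2 _).2 ⟨Q, hQmin, Ideal.mem_map_of_mem _ h⟩) ha

/-- A torsion-free quotient of a torsion-free module with prescribed maximal points in the support. -/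
theorem exists_quot [IsNoetherian X] {M : X.Modules} (hM : Coh.IsCoh M) (htM : TorSh.IsTorsionFree M)
    (hne : ∀ η, IsMaxPt η → η ∈ CohB1.support M) (T : Set X) :
    ∃ (G : X.Modules) (p : M ⟶ G), TFOne.IsQuotOn X M (CohB1.support G) G p ∧
      ∀ η, IsMaxPt η → (η ∈ CohB1.support G ↔ η ∈ T) := by
  classical
  haveI := hM.1
  let S : Set X := genericPoints X \ T
  have hSfin : S.Finite := ((genericPoints.finite (α := X)
    NoetherianSpace.finite_irreducibleComponents)).subset Set.sdiff_subset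
  let V : X.Opens := ⟨(⋃ η ∈ S, closure ({η} : Set X))ᶜ,
    (hSfin.isClosed_biUnion fun _ _ => isClosed_closure).isOpen_compl⟩
  have hV : ∀ η, IsMaxPt η → (η ∈ V ↔ η ∈ T) := fun η hη => by
    constructor
    · intro h
      by_contra hT
      exact h (Set.mem_biUnion (x := η) ⟨(isMaxPt_iff_genericPoints η).1 hη, hT⟩ (subset_closure rfl))
    · intro hT h
      obtain ⟨ξ, ⟨hξ, hξT⟩, hcl⟩ := Set.mem_iUnion₂.1 h
      exact hξT ((hη ξ (specializes_iff_mem_closure.2 hcl)) ▸ hT)
  haveI : Coh.IsQCoh ((Scheme.Modules.restrictFunctor V.ι).obj M) := inferInstance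
  let N := (Scheme.Modules.pushforward V.ι).obj ((Scheme.Modules.restrictFunctor V.ι).obj M)
  haveI : Coh.IsQCoh N := QCohLib.isQCoh_pushforward _ V.ι
  let f : M ⟶ N := (Scheme.Modules.restrictAdjunction V.ι).unit.app M
  have hK : Coh.IsCoh (kernel f) := QCohLib.isCoh_of_mono (kernel.ι f) hM (QCohLib.isQCoh_image f hM.1 inferInstance).1
  have hG : Coh.IsCoh (Abelian.coimage f) := (QCohLib.isCoh_kernel_cokernel (kernel.ι f) hK hM).2
  let p : M ⟶ Abelian.coimage f := Abelian.coimage.π f
  let ι : Abelian.coimage f ⟶ N := Abelian.factorThruCoimage f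
  have hpι : p ≫ ι = f := Abelian.coimage.fac f
  have hι := fun x => (mono_iff_stalk ι).1 inferInstance x
  have hp := fun x => (epi_iff_stalk p).1 inferInstance x
  refine ⟨_, p, isQuotOn_support p hp hG (fun x => ?_), fun η hη => ?_⟩
  · refine ⟨fun r hr => (injective_iff_map_eq_zero (DistribSMul.toAddMonoidHom _ r)).2 fun z hz => hι x ?_⟩
    rw [map_zero]
    have hrz : r • stalkLin ι x z = 0 := by
      rw [← map_smul]
      exact (congrArg _ hz).trans (map_zero _)
    clear hz
    generalize stalkLin ι x z = e at hrz ⊢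
    let S' : Set X := {η | η ∈ genericPoints X ∧ ¬ η ⤳ x}
    have hS' : S'.Finite := ((genericPoints.finite (α := X)
      NoetherianSpace.finite_irreducibleComponents)).subset fun η h => h.1
    obtain ⟨U₀, hU₀, a, rfl⟩ := TopCat.Presheaf.exists_germ_eq X.presheaf r
    obtain ⟨U₁, hU₁, s₁, rfl⟩ := TopCat.Presheaf.exists_germ_eq N.presheaf e
    let O : X.Opens := ⟨(⋃ η ∈ S', closure ({η} : Set X))ᶜ,
      (hS'.isClosed_biUnion fun _ _ => isClosed_closure).isOpen_compl⟩
    have hxO : x ∈ O := fun h => by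
      obtain ⟨η, hη, hcl⟩ := Set.mem_iUnion₂.1 h
      exact hη.2 (specializes_iff_mem_closure.2 hcl)
    let U₂ : X.Opens := U₀ ⊓ U₁
    have hx₂ : x ∈ U₂ := ⟨hU₀, hU₁⟩
    have hz : N.presheaf.germ U₂ x hx₂
        (X.presheaf.map (homOfLE (inf_le_left : U₂ ≤ U₀)).op a • N.presheaf.map (homOfLE (inf_le_right : U₂ ≤ U₁)).op s₁) =
        N.presheaf.germ U₂ x hx₂ 0 := by
      rw [TorRankLib.germ_smul', TopCat.Presheaf.germ_res_apply, TopCat.Presheaf.germ_res_apply, map_zero]
      exact hrz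
    obtain ⟨U₃, hx₃, i₁, i₂, h₃⟩ := N.presheaf.germ_eq x hx₂ hx₂ _ _ hz
    rw [map_zero] at h₃
    obtain ⟨W, hW, hxW, hWsub⟩ := exists_isAffineOpen_mem_and_subset (X := X) (x := x) (U := U₃ ⊓ O) ⟨hx₃, hxO⟩
    have hW₃ : W ≤ U₃ := fun y hy => (hWsub hy).1
    have hW₀ : W ≤ U₀ := fun y hy => (i₁.le (hW₃ hy)).1
    have hW₁ : W ≤ U₁ := fun y hy => (i₁.le (hW₃ hy)).2
    let a' : Γ(X, W) := X.presheaf.map (homOfLE hW₀).op a
    let s' : Γ(N, W) := N.presheaf.map (homOfLE hW₁).op s₁
    have has : a' • s' = 0 := by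
      have h4 := congrArg (N.presheaf.map (homOfLE hW₃).op) h₃
      rw [map_zero, Scheme.Modules.map_smul, Scheme.Modules.map_smul, ← CommRingCat.comp_apply,
        ← CommRingCat.comp_apply, ← X.presheaf.map_comp, ← X.presheaf.map_comp, ← ConcreteCategory.comp_apply,
        ← ConcreteCategory.comp_apply, ← N.presheaf.map_comp, ← N.presheaf.map_comp] at h4
      exact h4
    have hnd : X.presheaf.germ W x hxW a' ∈ nonZeroDivisors (X.presheaf.stalk x) := by
      rw [show X.presheaf.germ W x hxW a' = X.presheaf.germ U₀ x hU₀ a from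
        TopCat.Presheaf.germ_res_apply X.presheaf (homOfLE hW₀) x hxW a]
      exact isRegular_iff_mem_nonZeroDivisors.1 hr
    suffices hs0 : s' = 0 by
      rw [← TopCat.Presheaf.germ_res_apply N.presheaf (homOfLE hW₁) x hxW s₁]
      exact (congrArg (N.presheaf.germ W x hxW) hs0).trans (map_zero _)
    let W' : X.Opens := V.ι ''ᵁ (V.ι ⁻¹ᵁ W)
    have hW' : W' ≤ W := V.ι.image_preimage_le W
    let t : Γ(M, W') := s'
    show t = 0
    refine eq_zero_of_maxPt htM t fun η hη hmax => ?_
    have hu := isUnit_germ_of_regular hW hxW (hW' hη) hmax (by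
      by_contra hns
      exact (hWsub (hW' hη)).2 (Set.mem_biUnion (x := η) ⟨(isMaxPt_iff_genericPoints η).1 hmax, hns⟩ (subset_closure rfl))) hnd
    have h0 : X.presheaf.map (homOfLE hW').op a' • t = 0 := by
      refine Eq.trans ?_ has
      show _ = (V.ι.appIso _).inv (V.ι.app W a') • t
      congr 1
      show _ = (V.ι.app W ≫ (V.ι.appIso _).inv) a'
      rw [Scheme.Hom.app_eq_appLE, Scheme.Hom.appLE_appIso_inv]
    have h1 := congrArg (M.presheaf.germ W' η hη) h0
    rw [TorRankLib.germ_smul', map_zero, TopCat.Presheaf.germ_res_apply X.presheaf (homOfLE hW') η hη a'] at h1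
    exact hu.smul_eq_zero.1 h1
  · rw [mem_support_iff, ← hV η hη]
    constructor
    · rintro ⟨z, hz⟩
      by_contra hηV
      refine hz (hι η ?_)
      rw [map_zero]
      generalize stalkLin ι η z = e
      obtain ⟨U, hU, s, rfl⟩ := TopCat.Presheaf.exists_germ_eq N.presheaf e
      let S'' : Set X := genericPoints X \ {η}
      have hS'' : S''.Finite := ((genericPoints.finite (α := X)
        NoetherianSpace.finite_irreducibleComponents)).subset Set.sdiff_subset
      let O : X.Opens := ⟨(⋃ ξ ∈ S'', closure ({ξ} : Set X))ᶜ,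
        (hS''.isClosed_biUnion fun _ _ => isClosed_closure).isOpen_compl⟩
      have hηO : η ∈ O := fun h => by
        obtain ⟨ξ, hξ, hcl⟩ := Set.mem_iUnion₂.1 h
        exact hξ.2 (hη ξ (specializes_iff_mem_closure.2 hcl))
      have hbot : V.ι ⁻¹ᵁ (U ⊓ O) = ⊥ := eq_bot_iff.2 fun y hy => by
        obtain ⟨ξ, hξ, hξy⟩ := PicCurveLib.exists_genPt (V.ι y)
        have hξη : ξ = η := by
          by_contra hne
          exact hy.2 (Set.mem_biUnion (x := ξ) ⟨hξ, hne⟩ (specializes_iff_mem_closure.1 hξy))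
        subst hξη
        exact (y.2 (Set.mem_biUnion (x := ξ) ⟨hξ, fun hT => hηV ((hV ξ hη).2 hT)⟩
          (specializes_iff_mem_closure.1 hξy))).elim
      rw [← TopCat.Presheaf.germ_res_apply N.presheaf (homOfLE (inf_le_left : U ⊓ O ≤ U)) η ⟨hU, hηO⟩ s]
      refine (congrArg _ ?_).trans (map_zero _)
      refine TopCat.Sheaf.eq_of_locally_eq' ⟨((Scheme.Modules.restrictFunctor V.ι).obj M).presheaf,
        ((Scheme.Modules.restrictFunctor V.ι).obj M).isSheaf⟩ (fun e : Empty => e.elim) (V.ι ⁻¹ᵁ (U ⊓ O))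
        (fun e => e.elim) (hbot.le.trans bot_le) _ _ (fun e => e.elim)
    · intro hηV
      obtain ⟨m, hm⟩ := (mem_support_iff η).1 (hne η hη)
      refine ⟨stalkLin p η m, fun h => hm ((S1575.unit_stalk_bijective V.ι M ?_).1 ?_)⟩
      · rw [Scheme.Opens.opensRange_ι]; exact hηV
      · rw [map_zero]
        show stalkLin f η m = 0
        rw [← stalkLin_eq_of_comp hpι, h, map_zero]

end Groth.Agent.TFOneLib
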