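import Groth.Agent.TFOneLib.Modif2
import Groth.Agent.TFOneLib.Quot
import Groth.Agent.TFOneLib.DegAdd
import Groth.Agent.CurveLib.Finite

/-!
# The numbers `r χ(F_Z) + deg(E|_Z)`
-/

set_option autoImplicit false
set_option backward.isDefEq.respectTransparency false
set_option linter.style.haveILetI false

universe u

open CategoryTheory CategoryTheory.Limits AlgebraicGeometry TopologicalSpace Opposite

noncomputable section

namespace Groth.Agent.TFOneLib

open MeroLib (IsMaxPt)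
open PullbackMod

variable {X : Scheme.{u}} [IsReduced X] {k : Type u} [Field k] [X.Over (Spec (CommRingCat.of k))]
  [IsProper (X ↘ Spec (CommRingCat.of k))]

omit [IsReduced X] [IsProper (X ↘ Spec (CommRingCat.of k))] in
theorem rBeta_eq (E : X.Modules) (r : ℕ) (T : Set X) (hT : IsClosed T) (G : X.Modules) :
    TFOne.rBeta X k (X ↘ Spec (CommRingCat.of k)) T hT E r G = r * Curv2.euler k X G + degOn k E r T hT := rfl

omit [X.Over (Spec (CommRingCat.of k))] [IsProper (X ↘ Spec (CommRingCat.of k))] in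
theorem mem_union_iff_of_maxPt {η : X} (hη : IsMaxPt η) {Y : Set X} (hY : IsClosed Y) :
    η ∈ ⋃₀ {C | C ∈ irreducibleComponents (X : Type u) ∧ ¬ C ⊆ Y} ↔ η ∉ Y := by
  rw [mem_sUnion_iff (p := fun C => ¬ C ⊆ Y) ((isMaxPt_iff_genericPoints η).1 hη), closure_subset_iff hY]

omit [IsReduced X] [X.Over (Spec (CommRingCat.of k))] [IsProper (X ↘ Spec (CommRingCat.of k))] in
theorem exists_maxPt_specializes {Y : Set X} {S : Set (Set X)} (hS : S ⊆ irreducibleComponents (X : Type u))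
    (hY : Y = ⋃₀ S) : ∀ y ∈ Y, ∃ η, IsMaxPt η ∧ η ∈ Y ∧ η ⤳ y := by
  subst hY
  rintro y ⟨C, hC, hyC⟩
  obtain ⟨η, hη⟩ := QuasiSober.sober (hS hC).1 (isClosed_of_mem_irreducibleComponents C (hS hC))
  refine ⟨η, (isMaxPt_iff_genericPoints η).2 ?_, ⟨C, hC, hη.mem⟩, hη.specializes hyC⟩
  show closure {η} ∈ irreducibleComponents (X : Type u)
  rw [hη.def]
  exact hS hC

/-- A subcurve inside a closed set at the maximal points lies in it. -/
theorem subcurve_subset {Y Z : Set X} (hY : VecSt.IsSubcurve X Y) (hZ : IsClosed Z)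
    (h : ∀ η, IsMaxPt η → η ∈ Y → η ∈ Z) : Y ⊆ Z := by
  obtain ⟨S, hS, -, hYS⟩ := hY
  intro y hy
  obtain ⟨η, hη, hηY, hs⟩ := exists_maxPt_specializes hS hYS y hy
  exact hs.mem_closed hZ (h η hη hηY)

omit [IsProper (X ↘ Spec (CommRingCat.of k))] [X.Over (Spec (CommRingCat.of k))] in
theorem mem_support_of_maxPt [IsLocallyNoetherian X] {M : X.Modules} (hM : TFOne.IsRkOne X M) {η : X} (hη : IsMaxPt η) :
    η ∈ CohB1.support M := by
  obtain ⟨e, he, -⟩ := exists_basis hM hη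
  exact (mem_support_iff η).2 ⟨e, he⟩

omit [IsProper (X ↘ Spec (CommRingCat.of k))] [X.Over (Spec (CommRingCat.of k))] in
/-- The quotient on a closed subcurve exists. -/
theorem exists_quotOn [IsNoetherian X] {M : X.Modules} (hM : TFOne.IsTF1 X M) {T : Set X} (hT : IsClosed T)
    (hTs : VecSt.IsSubcurve X T) : ∃ (G : X.Modules) (p : M ⟶ G), TFOne.IsQuotOn X M T G p := by
  obtain ⟨G, p, hG, hmem⟩ := exists_quot hM.1 hM.2.1 (fun η hη => mem_support_of_maxPt hM.2.2 hη) T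
  obtain ⟨S, hS, -, hTS⟩ := hTs
  have e := support_eq_of_maxPt hG.2.1 hG.2.2.1 hT (exists_maxPt_specializes hS hTS) hmem
  exact ⟨G, p, hG.1, hG.2.1, hG.2.2.1, e⟩

omit [IsProper (X ↘ Spec (CommRingCat.of k))] [X.Over (Spec (CommRingCat.of k))] in
/-- The whole module is its quotient on everything. -/
theorem isQuotOn_univ [IsLocallyNoetherian X] {M : X.Modules} (hM : TFOne.IsTF1 X M) :
    TFOne.IsQuotOn X M Set.univ M (𝟙 M) := by
  refine ⟨inferInstance, hM.1, hM.2.1, support_eq_of_maxPt hM.1 hM.2.1 isClosed_univ (fun y _ => ?_)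
    fun η hη => iff_of_true (mem_support_of_maxPt hM.2.2 hη) trivial⟩
  obtain ⟨η, hη, hs⟩ := PicCurveLib.exists_genPt y
  exact ⟨η, (isMaxPt_iff_genericPoints η).2 hη, trivial, hs⟩

/-- The degree on the whole curve. -/
theorem degOn_univ [IsNoetherian X] (hdim : topologicalKrullDim X ≤ 1) {r : ℕ} {E : X.Modules}
    (hE : FlatMod.IsFinLocFreeOfRank r E) : degOn k E r Set.univ isClosed_univ = Curv2.deg k X E r := by
  rw [degOn_eq k hdim hE isClosed_univ, ← DegDevLib.twEuler_structure,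
    DegDevLib.twEuler_components k hdim hE (DevLib.isCoh_structureModule X)]
  refine finsum_congr fun Z => ?_
  have hη : IsMaxPt Z.2.1.genericPoint := by
    rw [MeroLib.isMaxPt_iff]
    show closure {Z.2.1.genericPoint} ∈ irreducibleComponents (X : Type u)
    rw [Z.2.1.closure_genericPoint (isClosed_of_mem_irreducibleComponents _ Z.2)]
    exact Z.2
  rw [Set.indicator_of_mem (Set.mem_univ _), one_mul]
  split_ifs
  · letI := (MeroLib.isField_stalk hη).toField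
    rw [← (LinearEquiv.ofBijective (LinearMap.toSpanSingleton (X.presheaf.stalk Z.2.1.genericPoint) _
      (ParaFLib.oneG Z.2.1.genericPoint)) (ParaFLib.bijective_oneG _)).length_eq, Module.length_eq_one]
    simp
  · rfl

/-- A monomorphism of coherent modules on a curve which is surjective at the maximal points and
preserves the Euler characteristic is an isomorphism. -/
theorem isIso_of_euler_eq (hdim : topologicalKrullDim X ≤ 1) {A B : X.Modules} (hA : Coh.IsCoh A)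
    (hB : Coh.IsCoh B) (f : A ⟶ B) [Mono f] (h : ∀ η, IsMaxPt η → Function.Surjective (stalkLin f η))
    (he : Curv2.euler k X A = Curv2.euler k X B) : IsIso f := by
  haveI := EulerIneqLib.isNoetherian_proper (X := X) k
  have hQ : Coh.IsCoh (cokernel f) := (QCohLib.isCoh_kernel_cokernel f hA hB).2
  have hsupp : ∀ η ∈ genericPoints X, η ∉ CohB1.support (cokernel f) := fun η hη => by
    rw [← subsingleton_stalk_iff]
    refine subsingleton_of_forall_eq 0 fun z => ?_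
    obtain ⟨b, rfl⟩ := (epi_iff_stalk (cokernel.π f)).1 inferInstance η z
    obtain ⟨a, rfl⟩ := h η ((isMaxPt_iff_genericPoints η).2 hη) b
    exact stalkLin_apply_zero (cokernel.condition f) η a
  have hcl := isClosed_support_of_isFT hQ.2
  have hd := dim_le_zero_of_disjoint hdim hcl hsupp
  have hS : (ShortComplex.mk f (cokernel.π f) (cokernel.condition f)).ShortExact :=
    { exact := ShortComplex.exact_of_g_is_cokernel _ (cokernelIsCokernel f) }
  have e := CurveLib.euler_shortExact (K := k) hS hA hB hQ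
  dsimp at e
  rw [CurveLib.euler_of_dim_le_zero hcl subset_rfl hd] at e
  haveI := EulerIneqLib.finite_HH (k := k) hQ 0
  haveI : Subsingleton (Coh.HH X (cokernel f) 0) :=
    Module.finrank_zero_iff.1 (show Module.finrank k (Coh.HH X (cokernel f) 0) = 0 by omega)
  refine (isIso_iff_stalk f).2 fun x => ⟨(mono_iff_stalk f).1 inferInstance x, fun b => ?_⟩
  exact (SyzLib.exact_stalkLin' (ShortComplex.mk _ _ (cokernel.condition f))
    (ShortComplex.exact_of_g_is_cokernel _ (cokernelIsCokernel f)) x b).1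
    ((CurveLib.subsingleton_stalk_of_H0 hcl hd (cokernel f) subset_rfl x).elim _ _)

section modif

variable {M P J : X.Modules} {π : M ⟶ P} {α : P ⟶ J} {β : J ⟶ M} {Y : Set X}
  (hM : TFOne.IsTF1 X M) (hP : TFOne.IsQuotOn X M Y P π) (hJ : IsModif π α β)

include hM hP hJ

/-- `χ(M_W) + χ(M_U) ≤ χ(M'_Z) + χ(M_Y)` for `W = Y ∩ Z` and `U = Y ∪ Z` on components. -/
theorem IsModif.euler_ineq (hdim : topologicalKrullDim X ≤ 1) {Z W U : Set X} {GZ GW GU : X.Modules}
    {pZ : J ⟶ GZ} {πW : M ⟶ GW} {πU : M ⟶ GU} (hZ : TFOne.IsQuotOn X J Z GZ pZ)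
    (hGW : TFOne.IsQuotOn X M W GW πW) (hGU : TFOne.IsQuotOn X M U GU πU)
    (hW : ∀ η, IsMaxPt η → (η ∈ W ↔ η ∈ Y ∧ η ∈ Z)) (hU : ∀ η, IsMaxPt η → (η ∈ U ↔ η ∈ Y ∨ η ∈ Z)) :
    Curv2.euler k X GW + Curv2.euler k X GU ≤ Curv2.euler k X GZ + Curv2.euler k X P := by
  haveI := EulerIneqLib.isNoetherian_proper (X := X) k
  have hWY : ∀ η, IsMaxPt η → η ∈ W → η ∈ Y := fun η hη h => ((hW η hη).1 h).1
  have hYU : ∀ η, IsMaxPt η → η ∈ Y → η ∈ U := fun η hη h => (hU η hη).2 (Or.inl h)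
  obtain ⟨J', p', -, -, hJ', hmem', -⟩ := hJ.exists_quot_union hM hP hGW hWY
  obtain ⟨r₂, -, c₂, hc₂, hmem₂⟩ := hJ.exists_quot_sdiff hM hP (isQuotOn_univ hM) fun _ _ _ => trivial
  obtain ⟨r₄, -, c₄, hc₄, hmem₄⟩ := hJ.exists_quot_sdiff hM hP hGU hYU
  have h := euler_union_add_inter_le (k := k) hdim (hJ.isTF1 hM hP)
    (fun η hη => ?_) (fun η hη => ?_) hZ hc₂ hJ' hc₄
  · rw [hJ.euler_union hM hP hGW hWY hJ' hmem', hJ.euler_sdiff hM hP (isQuotOn_univ hM) (fun _ _ _ => trivial) hc₂ hmem₂,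
      hJ.euler_sdiff hM hP hGU hYU hc₄ hmem₄] at h
    omega
  · rw [hmem' η hη, hmem₂ η hη, hW η hη]
    tauto
  · rw [hmem₄ η hη, hmem₂ η hη, hU η hη]
    tauto

omit [IsReduced X] in
/-- The degrees balance. -/
theorem IsModif.deg_eq [IsReduced X] (hdim : topologicalKrullDim X ≤ 1) {E : X.Modules} {r : ℕ}
    (hE : FlatMod.IsFinLocFreeOfRank r E) (hY : IsClosed Y) {Z W U : Set X} (hZ : IsClosed Z) (hWc : IsClosed W)
    (hUc : IsClosed U) (hW : ∀ η, IsMaxPt η → (η ∈ W ↔ η ∈ Y ∧ η ∈ Z))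
    (hU : ∀ η, IsMaxPt η → (η ∈ U ↔ η ∈ Y ∨ η ∈ Z)) :
    degOn k E r W hWc + degOn k E r U hUc = degOn k E r Z hZ + degOn k E r Y hY := by
  classical
  haveI := EulerIneqLib.isNoetherian_proper (X := X) k
  refine degOn_add_degOn k hdim hE hWc hUc hZ hY fun η hη => ?_
  have hη' := (isMaxPt_iff_genericPoints η).2 hη
  simp only [Set.indicator_apply, hW η hη', hU η hη']
  by_cases h1 : η ∈ Y <;> by_cases h2 : η ∈ Z <;> simp [h1, h2]

/-- `β(W) + β(U) ≤ β'(Z) + β(Y)`. -/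
theorem IsModif.rBeta_ineq (hdim : topologicalKrullDim X ≤ 1) {E : X.Modules} {r : ℕ}
    (hE : FlatMod.IsFinLocFreeOfRank r E) (hY : IsClosed Y) {Z W U : Set X} (hZc : IsClosed Z) (hWc : IsClosed W)
    (hUc : IsClosed U) {GZ GW GU : X.Modules}
    {pZ : J ⟶ GZ} {πW : M ⟶ GW} {πU : M ⟶ GU} (hZ : TFOne.IsQuotOn X J Z GZ pZ)
    (hGW : TFOne.IsQuotOn X M W GW πW) (hGU : TFOne.IsQuotOn X M U GU πU)
    (hW : ∀ η, IsMaxPt η → (η ∈ W ↔ η ∈ Y ∧ η ∈ Z)) (hU : ∀ η, IsMaxPt η → (η ∈ U ↔ η ∈ Y ∨ η ∈ Z)) :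
    TFOne.rBeta X k (X ↘ Spec (CommRingCat.of k)) W hWc E r GW + TFOne.rBeta X k (X ↘ Spec (CommRingCat.of k)) U hUc E r GU ≤
      TFOne.rBeta X k (X ↘ Spec (CommRingCat.of k)) Z hZc E r GZ + TFOne.rBeta X k (X ↘ Spec (CommRingCat.of k)) Y hY E r P := by
  simp only [rBeta_eq]
  have h1 := hJ.euler_ineq (k := k) hM hP hdim hZ hGW hGU hW hU
  have h2 := hJ.deg_eq (k := k) hM hP hdim hE hY hZc hWc hUc hW hU
  have h3 := mul_le_mul_of_nonneg_left h1 (Int.natCast_nonneg r)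
  linarith

/-- The modification decomposes along `Y` exactly when `χ(M'_Y) = χ(M_Y)`. -/
theorem IsModif.isIso_lift_iff (hdim : topologicalKrullDim X ≤ 1) {Y' : Set X} {G₁ G₂ : X.Modules}
    {p₁ : J ⟶ G₁} {p₂ : J ⟶ G₂} (h₁ : TFOne.IsQuotOn X J Y G₁ p₁) (h₂ : TFOne.IsQuotOn X J Y' G₂ p₂)
    (hY' : ∀ η, IsMaxPt η → (η ∈ Y' ↔ η ∉ Y)) :
    IsIso (biprod.lift p₁ p₂) ↔ Curv2.euler k X G₁ = Curv2.euler k X P := by
  haveI := EulerIneqLib.isNoetherian_proper (X := X) k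
  have e2 : Curv2.euler k X G₂ = Curv2.euler k X M - Curv2.euler k X P :=
    hJ.euler_sdiff hM hP (isQuotOn_univ hM) (fun _ _ _ => trivial) h₂ fun η hη => by rw [hY' η hη]; simp
  have eJ := hJ.euler_eq (k := k) hM hP
  have hB : Coh.IsCoh (G₁ ⊞ G₂) := FormalSys.isCoh_biprod h₁.2.1 h₂.2.1
  have eB := CurveLib.euler_shortExact (K := k)
    (ShortComplex.Splitting.ofHasBinaryBiproduct G₁ G₂).shortExact h₁.2.1 hB h₂.2.1
  dsimp at eB
  constructor
  · intro h
    have := CurveLib.euler_iso (K := k) (asIso (biprod.lift p₁ p₂))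
    omega
  · intro h
    have hJ1 := hJ.isTF1 hM hP
    have hR := hJ1.2.2
    haveI := hJ1.1.1
    have hf : ∀ η z, stalkLin (biprod.fst : G₁ ⊞ G₂ ⟶ G₁) η (stalkLin (biprod.lift p₁ p₂) η z) = stalkLin p₁ η z :=
      fun η z => stalkLin_eq_of_comp (biprod.lift_fst _ _) η z
    have hs : ∀ η z, stalkLin (biprod.snd : G₁ ⊞ G₂ ⟶ G₂) η (stalkLin (biprod.lift p₁ p₂) η z) = stalkLin p₂ η z :=
      fun η z => stalkLin_eq_of_comp (biprod.lift_snd _ _) η z
    haveI : Mono (biprod.lift p₁ p₂) := by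
      refine mono_of_maxPt hJ1.2.1 _ fun η hη => (injective_iff_map_eq_zero _).2 fun z hz => ?_
      by_cases hY : η ∈ Y
      · exact (bijective_stalk hR h₁ hη hY).1 (by rw [map_zero, ← hf, hz, map_zero])
      · exact (bijective_stalk hR h₂ hη ((hY' η hη).2 hY)).1 (by rw [map_zero, ← hs, hz, map_zero])
    refine isIso_of_euler_eq (k := k) hdim hJ1.1 hB _ (fun η hη e => ?_) (by omega)
    by_cases hY : η ∈ Y
    · obtain ⟨z, hz⟩ := (bijective_stalk hR h₁ hη hY).2 (stalkLin (biprod.fst : G₁ ⊞ G₂ ⟶ G₁) η e)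
      refine ⟨z, sub_eq_zero.1 (biprod_ext_stalk η (by rw [map_sub, hf, hz, sub_self])
        (stalk_zero_of_notMem h₂ (fun h' => (hY' η hη).1 h' hY) _))⟩
    · obtain ⟨z, hz⟩ := (bijective_stalk hR h₂ hη ((hY' η hη).2 hY)).2 (stalkLin (biprod.snd : G₁ ⊞ G₂ ⟶ G₂) η e)
      exact ⟨z, sub_eq_zero.1 (biprod_ext_stalk η (stalk_zero_of_notMem h₁ hY _)
        (by rw [map_sub, hs, hz, sub_self]))⟩

end modif

end Groth.Agent.TFOneLib
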